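import Cfsg.Agent.McL.Main
import Cfsg.Agent.Local.Sub

/-! Rigidity of the McLaughlin group over an involution centralizer. -/

set_option autoImplicit false
set_option linter.unusedSectionVars false

namespace Cfsg.Agent.McL

open Subgroup Cfsg.Agent.Mat Cfsg.Agent.M12C Cfsg.Agent.Local

variable {G : Type*} [Group G] [Finite G]

theorem conj_into {K : Subgroup G} (hK : Odd K.index) {v : G} (hv : v * v = 1) : ∃ g, g⁻¹ * v * g ∈ K := by
  obtain ⟨P, hP, -⟩ := exists_isSylowIn_ge (p := 2) (N := K) IsPGroup.of_bot bot_le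
  obtain ⟨g, -, hg⟩ := IsSylowIn.exists_le_conj (N := ⊤) (Q := zpowers v) ⟨le_top, hP.isPGroup, by
    rw [← relIndex_mul_relIndex P K ⊤ hP.le le_top, relIndex_top_right, Nat.prime_two.dvd_mul]
    exact not_or.mpr ⟨hP.not_dvd, hK.not_two_dvd_nat⟩⟩ (fun ⟨_, n, rfl⟩ => ⟨1, Subtype.ext (by
      show (v ^ n) ^ 2 ^ 1 = 1
      rw [← zpow_natCast, ← zpow_mul, mul_comm, zpow_mul, zpow_natCast, pow_one, pow_two, hv, one_zpow])⟩) le_top
  exact ⟨g, hP.le (mem_conj_smul_iff.mp (hg (mem_zpowers v)))⟩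

theorem ex_of_forall₂ {A B : Type*} {R : A → B → Prop} {l : List A} {l' : List B} (h : List.Forall₂ R l l') :
    ∀ a ∈ l, ∃ b, R a b := by
  induction h with
  | nil => simp
  | cons h _ ih => exact List.forall_mem_cons.mpr ⟨⟨_, h⟩, ih⟩

namespace Dg

variable {t : G} {xs : List G} (D : Dg t xs)
include D

theorem bij (t1 : t ≠ 1) {f : cl ms16 →* G} (L : Lq f) (hf : ∀ l, f (w l) = ev (defsQ.map (ev xs)) l) {y : G}
    (hy : Pin f y) (hs : f (w [6]) * y * (f (w [6]) * y) = 1) :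
    Nat.card G = 898128000 ∧ ∀ g, g ∈ cl (gl xs y) := by
  obtain ⟨F, hF⟩ := exists_hom_words (ms := ms) (gs := gl xs y) rfl (fun l hl => presA l hl) low_ms ms_relA.2.2
    (D.relA (D.relY L hf hy hs))
  have h1 : ∀ v, F (el ms v) = ev (gl xs y) v := hF
  have h2 : F (el ms [0]) = t := (h1 _).trans ((mul_one _).trans D.z0)
  have h3 : F (el ms [1]) = ev xs (defs.getD 1 []) := (h1 _).trans (mul_one _)
  obtain ⟨s, hs, s1, s2, s3⟩ := cent_11
  obtain ⟨-, g1, g2, g3, g4⟩ := G3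
  have h0 := le_antisymm (presA ms rfl ms_relA.2.2) low_ms
  have hb := bij_of_model h0 F
    (t := el ms [0]) (e := el ms [1]) (y := el ms [7]) (s := ⟨s, hs⟩) (Subtype.ext ((ev_append ms [0] [0]).symm.trans g1))
    (h2 ▸ t1) (Subtype.ext g2) (Subtype.ext g3) (by
      rw [card_cen, show (el ms [0]).1 = ms.getD 0 1 from mul_one _]
      exact cent_t) (fun g hg => by
      rw [h2, ← D.top] at hg
      obtain ⟨v, rfl⟩ := exists_word hg
      have h4 : allL isX (v.flatMap fun a => back.getD a []) = true := allL_iff.mpr fun a ha => by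
        obtain ⟨b, -, hb⟩ := List.mem_flatMap.mp ha
        by_cases e : b < back.length
        · rw [List.getD_eq_getElem _ _ e] at hb
          exact allL_iff.mp (allL_iff.mp back_chk.2 _ (List.getElem_mem e)) a hb
        · rw [List.getD_eq_default _ _ (not_lt.mp e)] at hb
          cases hb
      have h5 : ev ms (v.flatMap fun a => back.getD a []) = ev xsM v := by rw [← ev_subst, ← back_chk.1]
      refine ⟨el ms (v.flatMap fun a => back.getD a []), mem_centralizer_singleton_iff.mpr (Subtype.ext ?_), ?_⟩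
      · have h6 := comm_ev g4 v
        rw [← h5] at h6
        exact h6
      · rw [h1, ev_gl xs y h4]
        exact D.rel _ _ (by rw [← ev_ms h4, h5])) (h2 ▸ D.card) (by rw [h2, h3]; exact D.cls)
    (Subtype.ext s1) (fun e => s2 (congrArg Subtype.val e)) ((card_cen _).trans_le s3)
  refine ⟨(Nat.card_eq_of_bijective F hb).symm.trans h0, fun g => ?_⟩
  obtain ⟨u, rfl⟩ := hb.2 g
  obtain ⟨v, rfl⟩ := el_surj u
  exact h1 v ▸ ev_mem_cl _ _

theorem rigid (t1 : t ≠ 1) (h : ¬ IsIsolated t) : (∀ v, v * v = 1 → v ≠ 1 → ∃ g, g * t * g⁻¹ = v) ∧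
    ∀ α : G →* G, (∀ g, g * t = t * g → α g = g) → (∀ g, α g = g) ∨ ∀ g, α g = t * g * t⁻¹ := by
  obtain ⟨f, L, hf⟩ := D.exists_lq
  obtain ⟨y, hy⟩ := D.exists_rot L hf h
  obtain ⟨y, hy, hs⟩ := L.exists_pin' hy
  obtain ⟨hc, top⟩ := D.bij t1 L hf hy hs
  have e0 : f (w [0]) = t := (hf _).trans ((mul_one _).trans D.z0)
  have e1 : ev xs (defs.getD 1 []) = f (w [1]) := ((hf _).trans (mul_one _)).symm
  obtain ⟨r1, r2⟩ := hy.rot
  have r3 := hy.rot.three
  obtain ⟨c0, c1, c2, -, -, -, c6, -⟩ := F8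
  obtain ⟨n1, n2, n3⟩ := L.ne
  refine ⟨fun v v2 v1 => ?_, fun α hα => ?_⟩
  · have h1 := (centralizer {t}).card_mul_index
    rw [D.card, hc] at h1
    obtain ⟨g, hg⟩ := conj_into (K := centralizer {t}) (by rw [show Subgroup.index _ = 22275 by omega]; decide) v2
    by_cases e : g⁻¹ * v * g = t
    · exact ⟨g, by rw [← e]; group⟩
    obtain ⟨k, -, hk⟩ := D.cls (g⁻¹ * v * g) (by simp [mul_assoc, ← mul_assoc v, v2])
      (fun e => v1 (conj_eq_one_iff.mp (show g⁻¹ * v * g⁻¹⁻¹ = 1 by rwa [inv_inv]))) e (mem_centralizer_singleton_iff.mp hg)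
    exact ⟨g * (k * y), conj_comp (conj_comp (e0 ▸ r1) (e1 ▸ hk)) (by group)⟩
  have h1 : ∀ u, α (f u) = f u := fun u => hα _ (by rw [← e0, ← map_mul, c0, map_mul])
  have h2 : ∀ j ∈ j7, f j * (y⁻¹ * α y) = y⁻¹ * α y * f j := fun j hj => by
    obtain ⟨i, e⟩ := ex_of_forall₂ hy j hj
    have e' := congrArg α e
    rw [map_mul, map_mul, map_inv, h1, h1, ← e] at e'
    calc _ = y⁻¹ * (y * f j * y⁻¹) * α y := by group
      _ = _ := by rw [← e']; group
  have h3 := L.cen (g := y⁻¹ * α y) fun v _ => mul_inv_eq_iff_eq_mul.mpr (mem_centralizer_singleton_iff.mp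
    (ev_mem (K := (centralizer {y⁻¹ * α y}).comap f) (fun j hj => mem_centralizer_singleton_iff.mpr (h2 j hj)) v :)).symm
  have h4 : ∀ c, y⁻¹ * α y = c → c * c = 1 → f (w [6]) * (y * c * y⁻¹) * (f (w [6]))⁻¹ = c := fun c e cc => by
    have e' := congrArg α hs
    rw [map_mul, map_mul, h1, map_one, eq_mul_of_inv_mul_eq e] at e'
    calc _ = f (w [6]) * (y * c) * (f (w [6]) * (y * c)) * (c * c) * c⁻¹ * c⁻¹ * c⁻¹ * (f (w [6]) * y * (f (w [6]) * y))⁻¹ := by
          group
      _ = c := by rw [e', hs, cc, inv_eq_of_mul_eq_one_right cc]; simp [cc]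
  have h5 : ∀ β : G →* G, (∀ g, g * t = t * g → β g = g) → α y = β y → ∀ g, α g = β g := fun β hβ e g =>
    cl_le (K := α.eqLocus β) (fun x hx => by
      rcases List.mem_or_eq_of_mem_set hx with hx | rfl
      · rcases List.mem_or_eq_of_mem_set hx with hx | rfl
        · obtain ⟨v, -, rfl⟩ := List.mem_map.mp hx
          have := mem_centralizer_singleton_iff.mp (D.top.le (ev_mem_cl xs v))
          exact (hα _ this).trans (hβ _ this).symm
        · exact e
      · exact inv_mem e) (top g)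
  have h6 : f (w [0] * w [1]) * f (w [0] * w [1]) = 1 := by
    rw [← map_mul, mul_assoc, ← mul_assoc (w [1]), c0, mul_assoc, c2, mul_one, c1, map_one]
  rcases h3 with e | e | e | e
  · exact .inl (h5 (MonoidHom.id G) (fun _ _ => rfl) (inv_mul_eq_one.mp e).symm)
  · have := h4 _ e (by rw [← map_mul, c1, map_one])
    rw [r1, conj_f f c6] at this
    exact absurd this n3
  · refine .inr (h5 (MulAut.conj t).toMonoidHom (fun g e => mul_inv_eq_iff_eq_mul.mpr e.symm) ?_)
    show _ = t * y * t⁻¹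
    rw [eq_mul_of_inv_mul_eq e, ← e0, eq_mul_inv_iff_mul_eq, ← mul_inv_eq_iff_eq_mul.mp r3, mul_assoc, ← map_mul, c0]
  · have := h4 _ e h6
    rw [r3, conj_f f (mul_inv_eq_iff_eq_mul.mpr (c0 _))] at this
    exact absurd this.symm n3

end Dg

end Cfsg.Agent.McL
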