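import Cfsg.Agent.McL3.Sym8
import Cfsg.Agent.McL3.Rig
import Cfsg.Agent.Char.CentInv
import Cfsg.Agent.CIT.Galois

/-! Groups with an involution centralizer `2.S₈`. -/

set_option autoImplicit false
set_option linter.unusedSectionVars false

namespace Cfsg.Agent.McL3

open Subgroup Cfsg.Agent.Local Cfsg.Agent.McL
open Equiv.Perm hiding coe_mul coe_one coe_inv
open scoped Pointwise

variable {K G : Type*} [Group K] [Finite K] [Group G] [Finite G]

theorem cover {t f : K} (ff : f * f = t) (t1 : t ≠ 1) (tc : ∀ g, g * t = t * g) {κ : K →* alternatingGroup (Fin 8)}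
    (ks : Function.Surjective κ) (kk : ∀ g, κ g = 1 ↔ g = 1 ∨ g = t) :
    IsNonsplitDoubleCover K (alternatingGroup (Fin 8)) := by
  have h1 : center K = κ.ker := le_antisymm (fun c hc => (alternatingGroup.center_eq_bot (by simp)).le
    (mem_center_iff.mpr fun x => by
      obtain ⟨x, rfl⟩ := ks x
      rw [← map_mul, mem_center_iff.mp hc, map_mul])) fun c hc => by
    rcases (kk c).mp hc with rfl | rfl
    exacts [one_mem _, mem_center_iff.mpr tc]
  have h2 : Nat.card (center K) = 2 := (Nat.card_eq_two_iff' 1).mpr ⟨⟨t, mem_center_iff.mpr tc⟩,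
    fun e => t1 (congrArg Subtype.val e), fun c hc => Subtype.ext (((kk c).mp (h1.le c.2)).resolve_left
      fun e => hc (Subtype.ext e))⟩
  exact ⟨h2, ⟨(QuotientGroup.quotientMulEquivOfEq h1).trans (QuotientGroup.quotientKerEquivOfSurjective κ ks)⟩,
    fun L hL => t1 (disjoint_def.mp hL.disjoint (mem_center_iff.mpr tc)
      (ff ▸ mul_self_mem_of_index_two (hL.index_eq_card.trans h2) f))⟩

theorem sq_top {H : Subgroup (alternatingGroup (Fin 8))} (h : ∀ x, x * x ∈ H) (x : alternatingGroup (Fin 8)) : x ∈ H := by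
  obtain ⟨y, hy, e⟩ := (closure_le (K := H.map (Subgroup.subtype _))).mpr (fun c hc => ⟨_, h ⟨c * c, hc.isThreeCycle_sq.sign⟩, by
    show c * c * (c * c) = c
    rw [← mul_assoc, ← pow_three', ← hc.orderOf, pow_orderOf_eq_one, one_mul]⟩)
    (closure_three_cycles_eq_alternating.ge x.2)
  exact (show y = x from Subtype.ext e) ▸ hy

/-- The data of a double cover of `S₈`. -/
structure KS (t f y ι g : K) (κ : K →* P8) : Prop where
  tc : ∀ g, g * t = t * g
  t1 : t ≠ 1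
  ks : Function.Surjective κ
  kk : ∀ g, κ g = 1 ↔ g = 1 ∨ g = t
  ff : f * f = t
  fe : sign (κ f) = 1
  y5 : y ^ 5 = 1
  y1 : y ≠ 1
  fy : f * y * f⁻¹ = y⁻¹
  ιι : ι * ι = t
  ιf : ι * f = f * ι
  ιy : ι * y = y * ι
  gf : g * f * g⁻¹ = f * t
  ιg : ι * g = g * ι

namespace KS

variable {t f y ι g v w : K} {κ : K →* P8} (h : KS t f y ι g κ)
include h

theorem t0 : κ t = 1 := (h.kk t).mpr (.inr rfl)

theorem tt : t * t = 1 := ((h.kk _).mp (by rw [map_mul, h.t0, one_mul])).resolve_right fun e => h.t1 (mul_eq_left.mp e)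

theorem ne5 (h5 : v ^ 5 = 1) (h1 : v ≠ 1) : κ v ^ 5 = 1 ∧ κ v ≠ 1 :=
  ⟨by rw [← map_pow, h5, map_one], fun e => ((h.kk v).mp e).elim h1 fun e => h.t1 (by
    rwa [e, pow_succ, show 4 = 2 * 2 from rfl, pow_mul, pow_two t, h.tt, one_pow, one_mul] at h5)⟩

theorem ne2 (e : v * v = t) : κ v * κ v = 1 ∧ κ v ≠ 1 :=
  ⟨by rw [← map_mul, e, h.t0], fun e' => ((h.kk v).mp e').elim (fun e' => h.t1 (by rw [← e, e', mul_one]))
    fun e' => h.t1 (by rw [← e, e', h.tt])⟩

theorem cj (h1 : κ v * κ v = 1) (h2 : κ w * κ w = 1) (e : (κ v).support.card = (κ w).support.card) :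
    ∃ k, k * v * k⁻¹ = w ∨ k * v * k⁻¹ = w * t := by
  obtain ⟨k, hk⟩ := isConj_iff.mp (conj2 h1 h2 e)
  obtain ⟨k, rfl⟩ := h.ks k
  exact ⟨k, Char.eq_or_of_ker h.kk (by simpa using hk)⟩

theorem nsq (h1 : v * v = t) (h2 : w * w = 1) : (κ v).support.card ≠ (κ w).support.card := fun e => by
  obtain ⟨k, hk⟩ := h.cj (h.ne2 h1).1 (by rw [← map_mul, h2, map_one]) e
  have h3 : k * v * k⁻¹ * (k * v * k⁻¹) = t := by rw [conj_mul, h1, h.tc, mul_inv_cancel_right]
  refine h.t1 (h3 ▸ ?_)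
  rcases hk with e | e <;> rw [e]
  exacts [h2, by rw [mul_assoc, ← mul_assoc t, ← h.tc, mul_assoc, h.tt, mul_one, h2]]

theorem sι : (κ ι).support.card = 2 ∧ sign (κ ι) = -1 := by
  obtain ⟨k, -, -, a, b, c⟩ := cyc2 (h.ne2 h.ιι).1
  have h1 := c (h.ne2 h.ιι).2
  have h2 := comm5 Nat.prime_two (by decide) ((pow_two _).trans (h.ne2 h.ιι).1) (h.ne5 h.y5 h.y1).1 (h.ne5 h.y5 h.y1).2
    (by rw [← map_mul, h.ιy, map_mul])
  obtain rfl : k = 1 := by omega
  exact ⟨a, b⟩

theorem s4 (h1 : κ v * κ v = 1) (h2 : κ v ≠ 1) (h3 : sign (κ v) = 1) (h5 : w ^ 5 = 1) (w1 : w ≠ 1)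
    (e : v * w * v⁻¹ = w⁻¹) : (κ v).support.card = 4 := by
  obtain ⟨k, -, -, a, b, c⟩ := cyc2 h1
  have h4 := c h2
  have h6 := inv5 h1 (h.ne5 h5 w1).1 (h.ne5 h5 w1).2 (by simpa using congrArg κ e)
  rw [h3] at b
  have h7 : k < 4 := by omega
  interval_cases k
  exacts [absurd b (by decide), a, absurd b (by decide)]

theorem sf : (κ f).support.card = 4 := h.s4 (h.ne2 h.ff).1 (h.ne2 h.ff).2 h.fe h.y5 h.y1 h.fy

theorem sv (h1 : v * v = 1) (h2 : κ v ≠ 1) :
    sign (κ v) = -1 ∧ (κ v).support.card = 6 ∨ sign (κ v) = 1 ∧ (κ v).support.card = 8 := by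
  obtain ⟨k, hk, -, a, b, c⟩ := cyc2 (x := κ v) (by rw [← map_mul, h1, map_one])
  have h3 := c h2
  have h4 := h.nsq h.ιι h1
  have h5 := h.nsq h.ff h1
  rw [h.sι.1] at h4
  rw [h.sf] at h5
  interval_cases k
  exacts [absurd a.symm h4, absurd a.symm h5, .inl ⟨b, a⟩, .inr ⟨b, a⟩]

theorem not_inv {m : K} (h1 : m * m * (m * m) = 1) (h2 : m * m ≠ 1) (h3 : m * m ≠ t) (h5 : w ^ 5 = 1) (w1 : w ≠ 1) :
    m * m * w * (m * m)⁻¹ ≠ w⁻¹ := fun e =>
  h.nsq h.ff h1 (h.sf.trans (h.s4 (by rw [← map_mul, h1, map_one]) (fun e => ((h.kk _).mp e).elim h2 h3)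
    (by rw [map_mul, map_mul, Int.units_mul_self]) h5 w1 e).symm)

theorem jj : ι * f * (ι * f) = 1 := by rw [← pow_two, Commute.mul_pow h.ιf, pow_two, pow_two, h.ιι, h.ff, h.tt]

theorem odd (h1 : v * v = 1) (h2 : sign (κ v) = -1) : (∃ k, k * (ι * f) * k⁻¹ = v) ∧ ∃ k, k * v * k⁻¹ = v * t := by
  have h3 : ∀ v, v * v = 1 → sign (κ v) = -1 → (κ v).support.card = 6 := fun v a b =>
    ((h.sv a fun e => by simp [e] at b).resolve_right fun e => by simp [e.1] at b).2
  have h4 : g * (ι * f) * g⁻¹ = ι * f * t := by rw [← mul_assoc, ← h.ιg, mul_assoc ι, mul_assoc ι, h.gf, mul_assoc]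
  obtain ⟨k, hk⟩ : ∃ k, k * (ι * f) * k⁻¹ = v := by
    obtain ⟨k, e | e⟩ := h.cj (by rw [← map_mul, h.jj, map_one]) (by rw [← map_mul, h1, map_one])
      ((h3 _ h.jj (by rw [map_mul, map_mul, h.sι.2, h.fe, mul_one])).trans (h3 v h1 h2).symm)
    · exact ⟨k, e⟩
    · exact ⟨k * g, conj_comp h4 (by rw [← conj_mul, e, h.tc k, mul_inv_cancel_right, mul_assoc, h.tt, mul_one])⟩
  refine ⟨⟨k, hk⟩, k * g * k⁻¹, conj_comp (by rw [← hk]; group) (conj_comp h4 ?_)⟩
  rw [← conj_mul, hk, h.tc k, mul_inv_cancel_right]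

theorem even (h1 : v * v = 1) (h2 : κ v ≠ 1) (h3 : sign (κ v) = 1) (h4 : w * w = 1) (h5 : κ w ≠ 1)
    (h6 : sign (κ w) = 1) : ∃ k, k * v * k⁻¹ = w ∨ k * v * k⁻¹ = w * t :=
  h.cj (by rw [← map_mul, h1, map_one]) (by rw [← map_mul, h4, map_one])
    (((h.sv h1 h2).resolve_left fun e => by simp [e.1] at h3).2.trans
      ((h.sv h4 h5).resolve_left fun e => by simp [e.1] at h6).2.symm)

theorem two_dvd (h1 : v * v = 1) (h2 : sign (κ v) = -1) : 2 ∣ (centralizer {v}).index := by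
  obtain ⟨k, hk⟩ := (h.odd h1 h2).2
  have c : ∀ b, b ∈ centralizer {v} ↔ b * v * b⁻¹ = v := fun b =>
    mem_centralizer_singleton_iff.trans mul_inv_eq_iff_eq_mul.symm
  have h3 : centralizer {v} ≤ (centralizer {κ v}).comap κ := fun b hb => mem_centralizer_singleton_iff.mpr (by
    rw [← map_mul, mem_centralizer_singleton_iff.mp hb, map_mul])
  refine relIndex_mul_index h3 ▸ Dvd.dvd.mul_right (dvd_of_eq (index_eq_two_iff.mpr ⟨⟨k, mem_centralizer_singleton_iff.mpr
    (by rw [← map_mul, mul_inv_eq_iff_eq_mul.mp hk, map_mul, map_mul, h.t0, mul_one])⟩, fun b => ?_⟩).symm) _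
  have h4 : b.1 * k * v * (b.1 * k)⁻¹ = b * v * b.1⁻¹ * t :=
    conj_comp hk (by rw [← conj_mul, h.tc b, mul_inv_cancel_right])
  rw [mem_subgroupOf, mem_subgroupOf, c, c]
  show Xor (b.1 * k * v * (b.1 * k)⁻¹ = v) _
  rw [h4]
  rcases Char.eq_or_of_ker h.kk (show κ (b * v * b.1⁻¹) = κ v by
    rw [map_mul, map_mul, mem_centralizer_singleton_iff.mp b.2, map_inv, mul_inv_cancel_right]) with e | e <;> rw [e]
  · exact .inr ⟨rfl, by simpa using h.t1⟩
  · exact .inl ⟨by rw [mul_assoc, h.tt, mul_one], by simpa using h.t1⟩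

end KS

theorem endS {t r : G} {t' f y ι g w : centralizer {t}} {κ : centralizer {t} →* P8} (h : KS t' f y ι g κ) (ht : t'.1 = t)
    (nj : ¬ IsConj t (ι * f).1) (ww : w * w = 1) (wt : w ≠ t') (rw' : r * t * r⁻¹ = w) (c2 : IsConj t (w * t').1)
    (hr : ∀ H : Subgroup G, H.index = 2 → r ∈ H)
    (cen : ∀ H : Subgroup G, H.index = 2 → ∀ c, (∀ x ∈ H, c * x = x * c) → c = 1) :
    Nonempty (G ≃* MulAut Spor.McL) := by
  have t1 : t ≠ 1 := fun e => h.t1 (Subtype.ext (ht.trans e))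
  have tt : t * t = 1 := ht ▸ congrArg Subtype.val h.tt
  have c1 : IsConj t w.1 := isConj_iff.mpr ⟨r, rw'⟩
  have c3 : ∀ k x y : centralizer {t}, k * x * k⁻¹ = y → IsConj x.1 y.1 := fun k x y e =>
    isConj_iff.mpr ⟨k, congrArg Subtype.val e⟩
  have h1 : ∀ v : centralizer {t}, v * v = 1 → IsConj t v.1 → sign (κ v) = 1 := fun v a b =>
    (Int.units_eq_one_or _).resolve_right fun e =>
      let ⟨k, hk⟩ := (h.odd a e).1
      nj (b.trans (c3 _ _ _ hk).symm)
  have h2 : ∀ v : centralizer {t}, v * v = 1 → v ≠ 1 → sign (κ v) = 1 → IsConj t v.1 := fun v a b c => by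
    by_cases e : v = t'
    · rw [e, ht]
    obtain ⟨k, e | e⟩ := h.even a (fun e' => ((h.kk v).mp e').elim b e) c ww (fun e' => ((h.kk w).mp e').elim
      (fun e => t1 (by simpa [e] using c1)) wt) (h1 w ww c1)
    exacts [c1.trans (c3 _ _ _ e).symm, c2.trans (c3 _ _ _ e).symm]
  have h3 : Odd (centralizer {t}).index := by
    obtain ⟨T, hT, h4⟩ := exists_isSylowIn_ge (p := 2) (Q := zpowers t) (N := centralizer {t})
      (IsPGroup.of_card (n := 1) (by rw [Nat.card_zpowers, orderOf_eq_prime ((pow_two t).trans tt) t1]; rfl))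
      (zpowers_le.mpr (mem_centralizer_singleton_iff.mpr rfl))
    obtain ⟨P, hP, h5⟩ := exists_isSylowIn_ge (N := ⊤) hT.isPGroup le_top
    have : Nontrivial P := ⟨⟨⟨t, h5 (h4 (mem_zpowers t))⟩, 1, fun e => t1 (congrArg Subtype.val e)⟩⟩
    obtain ⟨n, hn, e⟩ := (hP.isPGroup.to_subgroup (center P)).nontrivial_iff_card.mp hP.isPGroup.center_nontrivial
    obtain ⟨⟨⟨s, sP⟩, hs⟩, s2⟩ := exists_prime_orderOf_dvd_card' (G := center P) 2 (e ▸ dvd_pow_self 2 hn.ne')
    rw [← orderOf_coe, ← orderOf_coe] at s2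
    have s1 : ∀ x ∈ P, x * s = s * x := fun x hx => congrArg Subtype.val (mem_center_iff.mp hs ⟨x, hx⟩)
    have s3 := mem_centralizer_singleton_iff.mpr (s1 t (h5 (h4 (mem_zpowers t)))).symm
    have s4 : (⟨s, s3⟩ : centralizer {t}) * ⟨s, s3⟩ = 1 := Subtype.ext ((pow_two s).symm.trans (s2 ▸ pow_orderOf_eq_one s))
    rcases Int.units_eq_one_or (sign (κ ⟨s, s3⟩)) with e | e
    · obtain ⟨x, hx⟩ := isConj_iff.mp (h2 _ s4 (fun e => by simp [show s = 1 from congrArg Subtype.val e] at s2) e)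
      refine Nat.not_even_iff_odd.mp fun e => (hP.conj_smul_of_mem_normalizer (g := x⁻¹) (le_normalizer (mem_top _))).not_dvd ?_
      rw [relIndex_top_right]
      refine e.two_dvd.trans (index_dvd_of_le ?_)
      rintro - ⟨b, hb, rfl⟩
      refine mem_centralizer_singleton_iff.mpr ?_
      calc x⁻¹ * b * x⁻¹⁻¹ * t = x⁻¹ * (b * (x * t * x⁻¹)) * x := by group
        _ = t * (x⁻¹ * b * x⁻¹⁻¹) := by rw [hx, s1 b hb, ← show x * t * x⁻¹ = s from hx]; group
    · exact absurd ((h.two_dvd s4 e).trans (index_dvd_of_le fun x hx =>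
        mem_centralizer_singleton_iff.mpr (Subtype.ext (s1 _ (h5 hx))))) hT.not_dvd
  have h4 : ((alternatingGroup (Fin 8)).comap κ).index = 2 :=
    (index_comap_of_surjective _ h.ks).trans alternatingGroup.index_eq_two
  obtain ⟨H, hH⟩ := CIT.exists_index_two_of_transfer h3 (map_subtype_le ((alternatingGroup (Fin 8)).comap κ))
    (by rw [relIndex, subgroupOf, comap_map_eq_self_of_injective (subtype_injective _), h4]) (u := (ι * f).1) (k := 1)
    ((pow_two _).trans (congrArg Subtype.val h.jj)) (fun x ⟨v, hv, e⟩ => by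
      have e1 : IsConj v.1 (ι * f).1 := isConj_iff.mpr ⟨x, by rw [show v.1 = _ from e]; group⟩
      have e2 := congrArg Subtype.val h.jj
      refine nj ((h2 v (Subtype.ext ?_) (fun e => nj ?_) hv).trans e1)
      · rw [coe_mul, show v.1 = _ from e, ← inv_inv x, inv_inv x⁻¹, conj_mul, ← coe_mul, e2]
        simp
      · have := h.sι.2
        rw [e, coe_one, isConj_one_right, coe_mul, mul_eq_one_iff_eq_inv, ← coe_inv, ← Subtype.ext_iff] at e1
        simp [e1, h.fe] at this)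
    fun x m _ => by
      rw [pow_mul, pow_two, ← coe_mul, h.jj]
      simp
  have : H.Normal := normal_of_index_eq_two hH
  have h5 : H.subgroupOf (centralizer {t}) = (alternatingGroup (Fin 8)).comap κ := by
    have h6 : (H.subgroupOf (centralizer {t})).index = 2 := ((Nat.dvd_prime Nat.prime_two).mp
      (hH ▸ relIndex_dvd_index_of_normal H _)).resolve_left fun e => h3.not_two_dvd_nat
        (hH ▸ index_dvd_of_le (relIndex_eq_one.mp e))
    have h7 : κ.ker ≤ H.subgroupOf (centralizer {t}) := fun x hx => by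
      rcases (h.kk x).mp hx with rfl | rfl
      exacts [one_mem _, h.ff ▸ mul_self_mem_of_index_two h6 f]
    rw [← eq_alternatingGroup_of_index_eq_two ((index_map_eq _ h.ks h7).trans h6), comap_map_eq_self h7]
  have tH : t ∈ H := ht ▸ h.ff ▸ mul_self_mem_of_index_two hH f.1
  let τ : H := ⟨t, tH⟩
  let i : centralizer {τ} →* centralizer {t} := (H.subtype.comp (centralizer {τ}).subtype).codRestrict _ fun x =>
    mem_centralizer_singleton_iff.mpr (congrArg Subtype.val (mem_centralizer_singleton_iff.mp x.2))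
  have i1 : ∀ x : centralizer {t}, sign (κ x) = 1 → ∃ y, i y = x := fun x hx =>
    ⟨⟨⟨x, h5.ge hx⟩, mem_centralizer_singleton_iff.mpr (Subtype.ext (mem_centralizer_singleton_iff.mp x.2))⟩, rfl⟩
  have i2 : Function.Injective i := fun x y e => Subtype.ext (Subtype.ext (congrArg Subtype.val e :))
  let κ' : centralizer {τ} →* alternatingGroup (Fin 8) := (κ.comp i).codRestrict _ fun x => h5.le x.1.2
  have k1 : Function.Surjective κ' := fun ⟨σ, hσ⟩ => by
    obtain ⟨x, rfl⟩ := h.ks σ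
    obtain ⟨x, rfl⟩ := i1 x hσ
    exact ⟨x, rfl⟩
  obtain ⟨f', rfl⟩ := i1 f h.fe
  have i3 : i (f' * f') = t' := (map_mul _ _ _).trans h.ff
  have i4 : (f' * f').1 = τ := Subtype.ext ((congrArg Subtype.val i3).trans ht)
  have k2 : ∀ x, κ' x = 1 ↔ x = 1 ∨ x = f' * f' := fun x => Subtype.ext_iff.trans ((h.kk (i x)).trans (by
    rw [← i3, i2.eq_iff, map_eq_one_iff i i2]))
  have k3 : ∀ x, x * (f' * f') = f' * f' * x := fun x => i2 (by rw [map_mul, map_mul i (f' * f'), i3, h.tc])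
  have τ1 : τ ≠ 1 := fun e => t1 (congrArg Subtype.val e)
  obtain ⟨xs, D⟩ := exists_dg τ1 (cover rfl (fun e => h.t1 (by rw [← i3, e, map_one])) k3 k1 k2)
  have ni : ¬ IsIsolated τ := fun e => wt (Subtype.ext (by
    rw [ht, ← rw']
    exact congrArg Subtype.val (e ⟨r, hr H hH⟩ (Subtype.ext (by
      show t * (r * t * r⁻¹) = r * t * r⁻¹ * t
      rw [rw', mem_centralizer_singleton_iff.mp w.2])))))
  obtain ⟨e⟩ := D.iso τ1 ni
  obtain ⟨d1, d2⟩ := D.rigid τ1 ni
  refine ⟨(MulEquiv.ofBijective (MulAut.conjNormal (H := H)) ⟨(injective_iff_map_eq_one _).mpr fun c hc =>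
    cen H hH c fun x hx => mul_inv_eq_iff_eq_mul.mp (congrArg (fun α : MulAut H => (α ⟨x, hx⟩).1) hc),
    fun α => ?_⟩).trans (MulAut.congr e)⟩
  let R := (MulAut.conjNormal (H := H)).range
  have r1 : ∀ α : MulAut H, α τ = τ → α ∈ R := fun α hα => by
    let a : centralizer {τ} →* centralizer {τ} := (α.toMonoidHom.comp (centralizer {τ}).subtype).codRestrict _ fun x =>
      mem_centralizer_singleton_iff.mpr (by
        show α x * τ = τ * α x
        simpa only [map_mul, hα] using congrArg α (mem_centralizer_singleton_iff.mp x.2))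
    have a1 : Function.Injective a := fun x y e => Subtype.ext (α.injective (congrArg Subtype.val e))
    have a2 : a (f' * f') = f' * f' := Subtype.ext (show α (f' * f').1 = _ by rw [i4, hα])
    have a3 : ∀ x, κ' (a x) = 1 ↔ κ' x = 1 := fun x => by
      rw [k2, k2, map_eq_one_iff a a1, ← a1.eq_iff (a := x) (b := f' * f'), a2]
    let β := κ'.liftOfSurjective k1 ⟨κ'.comp a, fun x => (a3 x).mpr⟩
    have b1 : ∀ x, β (κ' x) = κ' (a x) := fun x => MonoidHom.liftOfRightInverse_comp_apply ..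
    obtain ⟨σ, hσ⟩ := aut8 (β := (Subgroup.subtype _).comp β) ((subtype_injective _).comp
      ((injective_iff_map_eq_one β).mpr fun x hx => by
        obtain ⟨x, rfl⟩ := k1 x
        rwa [b1, a3] at hx))
    obtain ⟨k, rfl⟩ := h.ks σ
    let α' := (MulAut.conjNormal k.1)⁻¹ * α
    have b2 : ∀ x, k⁻¹ * i (a x) * k = i x ∨ k⁻¹ * i (a x) * k = i x * t' := fun x => Char.eq_or_of_ker h.kk (by
      have := hσ (κ' x)
      rw [MonoidHom.comp_apply, b1] at this
      rw [map_mul, map_mul, show κ (i (a x)) = _ from this, map_inv]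
      show _ = (κ' x).1
      group)
    let F := (((MulAut.conj k⁻¹).toMonoidHom.comp i).comp a).eqLocus i
    have b3 : ∀ x, x ∈ F ↔ k⁻¹ * i (a x) * k = i x := fun x => by
      show k⁻¹ * i (a x) * k⁻¹⁻¹ = i x ↔ _
      rw [inv_inv]
    have b4 : ∀ x, x * x ∈ F := fun x => by
      rw [b3, map_mul, map_mul, map_mul, show k⁻¹ * (i (a x) * i (a x)) * k = k⁻¹ * i (a x) * k * (k⁻¹ * i (a x) * k) by group]
      rcases b2 x with e | e <;> rw [e]
      rw [mul_assoc, ← mul_assoc t', ← h.tc, mul_assoc, h.tt, mul_one]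
    have b5 : ∀ x, x ∈ F := fun x => by
      obtain ⟨x', hx, e⟩ := sq_top (H := F.map κ') (fun σ => by
        obtain ⟨x, rfl⟩ := k1 σ
        exact ⟨_, b4 x, map_mul ..⟩) (κ' x)
      rcases Char.eq_or_of_ker k2 e.symm with rfl | rfl
      exacts [hx, mul_mem hx (b4 f')]
    refine (R.mul_mem_cancel_left (inv_mem ⟨k.1, rfl⟩)).mp (show α' ∈ R from ?_)
    rcases d2 α'.toMonoidHom fun x hx => Subtype.ext (by
      have : k.1⁻¹ * (α x).1 * k = x := congrArg Subtype.val ((b3 _).mp (b5 ⟨x, mem_centralizer_singleton_iff.mpr hx⟩))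
      simpa [α'] using this) with e | e
    exacts [⟨1, (map_one _).trans (MulEquiv.ext e).symm⟩, ⟨t, MulEquiv.ext fun x => (e x).symm⟩]
  obtain ⟨x, hx⟩ := d1 (α τ) (by rw [← map_mul, show τ * τ = 1 from Subtype.ext tt, map_one]) (by simpa using τ1)
  exact (R.mul_mem_cancel_left (inv_mem ⟨x.1, rfl⟩)).mp (r1 _ (by
    rw [MulAut.mul_apply, ← hx, MulAut.inv_apply, MulEquiv.symm_apply_eq]
    rfl))

end Cfsg.Agent.McL3
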