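import Cfsg.Agent.McL3.KBar

/-! The centralizer of the involution. -/

set_option autoImplicit false
set_option linter.unusedSectionVars false

namespace Cfsg.Agent.McL3

open Cfsg.Agent.Mat Cfsg.Agent.Local Cfsg.Agent.Char Subgroup
open scoped Pointwise

attribute [local irreducible] aX hX tX uX fX gX

variable {K Y : Type*} [Group K] [Finite K] [Group Y] [Finite Y]

theorem comm_all {ψ : X →* K} {c : K} (h1 : c * ψ aX = ψ aX * c) (h2 : c * ψ hX = ψ hX * c) (x : X) :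
    c * ψ x = ψ x * c :=
  (mem_centralizer_singleton_iff.mp (X_top (K := (centralizer {c}).comap ψ) (mem_centralizer_singleton_iff.mpr h1.symm)
    (mem_centralizer_singleton_iff.mpr h2.symm) x :)).symm

theorem inv_cj {c z : K} (e : c * z * c⁻¹ = z⁻¹) : c⁻¹ * z * c = z⁻¹ := by
  rw [mul_assoc, inv_mul_eq_iff_eq_mul, ← mul_inv_eq_iff_eq_mul.mp (show c * z⁻¹ * c⁻¹ = z by rw [← conj_inv, e, inv_inv])]

theorem KB.card9 {z a w : Y} (h : KB z a w) : Nat.card (closure {z, a} : Subgroup Y) = 9 := by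
  have h1 := card_sup_mul_card_inf (A := zpowers a) (N := zpowers z)
    (zpowers_le.mpr ((mem_Nz h.oz).mpr (.inl (by rw [← h.za, mul_inv_cancel_right]))))
  rwa [show zpowers z ⊓ zpowers a = ⊥ from eq_bot_iff.mpr fun x hx => (mem_zpowers_three h.oa hx.2).elim id fun e =>
    absurd (e.elim (· ▸ hx.1) fun e => inv_mem_iff.mp (e ▸ hx.1)) h.az, card_bot, mul_one, Nat.card_zpowers,
    Nat.card_zpowers, h.oz, h.oa, zpowers_eq_closure, zpowers_eq_closure, ← Subgroup.closure_union] at h1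

namespace KH0

variable {t z m w : K} {ψ : X →* K} (h : KH0 t z m w ψ)
include h

theorem tt : t * t = 1 := by rw [← h.ψt, ← map_mul, ← pow_two, X1.2.2.1, map_one]

theorem t1 : t ≠ 1 := fun e => X1.2.2.2.2.2.2.1 (h.inj _ (by rw [h.ψt, e]; exact one_mem _))

theorem k3 {k : K} (hk : k ∈ zpowers z) : k ^ 3 = 1 := by
  rw [← h.oz, ← Nat.card_zpowers]
  exact congrArg Subtype.val (pow_card_eq_one' (x := (⟨_, hk⟩ : zpowers z)))

theorem zsplit {k : K} (hk : k ∈ zpowers z) {x y : X} (e : k * ψ x = ψ y) : k = 1 ∧ x = y := by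
  have h1 : y * x⁻¹ = 1 := h.inj _ (by rwa [map_mul, map_inv, ← e, mul_inv_cancel_right])
  rw [mul_inv_eq_one.mp h1, mul_eq_right] at e
  exact ⟨e, (mul_inv_eq_one.mp h1).symm⟩

theorem pair {g : K} (hg : g ∈ Nz z) : ∃ e, (g * ψ aX * g⁻¹ = ψ (e * aX * e⁻¹) ∧ g * ψ hX * g⁻¹ = ψ (e * hX * e⁻¹)) ∨
    (g * ψ aX * g⁻¹ = ψ (e * aX⁻¹ * e⁻¹) ∧ g * ψ hX * g⁻¹ = ψ (e * uX * e⁻¹)) := by
  obtain ⟨k, hk, x, e1⟩ := h.nz g hg aX
  obtain ⟨l, hl, y, e2⟩ := h.nz g hg hX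
  obtain ⟨x1, x2, -, x4, -⟩ := X1
  have c : ∀ k ∈ zpowers z, ∀ x, Commute k (ψ x) := fun k hk x => (zc hk (h.zψ x)).symm
  obtain ⟨l1, y1⟩ := h.zsplit (pow_mem hl 5) (x := y ^ 5) (y := 1) (by
    rw [map_pow, ← (c l hl y).mul_pow, ← e2, conj_pow, ← map_pow, x2, map_one, mul_one, mul_inv_cancel])
  obtain rfl : l = 1 := by
    calc l = l ^ 5 * l := by rw [l1, one_mul]
      _ = (l ^ 3) ^ 2 := by group
      _ = 1 := by rw [h.k3 hl, one_pow]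
  obtain ⟨k1, y2⟩ := h.zsplit (pow_mem hk 2) (x := (x * y) ^ 2) (y := tX) (by
    rw [map_pow, ← (c k hk _).mul_pow, map_mul, ← mul_assoc, ← e1, ← one_mul (ψ y), ← e2, conj_mul, conj_pow, ← map_mul,
      ← map_pow, x4, h.ψt, h.tc, mul_inv_cancel_right])
  obtain rfl : k = 1 := by rw [← h.k3 hk, pow_succ, k1, one_mul]
  rw [one_mul] at e1 e2
  obtain ⟨e, h1⟩ := X4 x (h.inj _ (by rw [map_pow, ← e1, conj_pow, ← map_pow, x1]; simp)) y y1 y2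
  exact ⟨e, h1.imp (fun e => by rw [e.1, e.2, e1, e2]; exact ⟨rfl, rfl⟩) fun e => by rw [e.1, e.2, e1, e2]; exact ⟨rfl, rfl⟩⟩

theorem ψi {x y : X} (e : ψ x = ψ y) : x = y := (h.zsplit (one_mem _) ((one_mul _).trans e)).2

theorem adj : ∃ m, KH0 t z m w ψ ∧ m * ψ hX * m⁻¹ = ψ uX := by
  have c : ∀ e v y, m * v * m⁻¹ = ψ (e * y * e⁻¹) → (ψ e)⁻¹ * m * v * ((ψ e)⁻¹ * m)⁻¹ = ψ y := fun e v y h1 => by
    rw [show (ψ e)⁻¹ * m * v * ((ψ e)⁻¹ * m)⁻¹ = (ψ e)⁻¹ * (m * v * m⁻¹) * ψ e by group, h1]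
    simp [mul_assoc]
  have cz : ∀ e, (ψ e)⁻¹ * m * z * ((ψ e)⁻¹ * m)⁻¹ = z⁻¹ := fun e => by
    rw [show (ψ e)⁻¹ * m * z * ((ψ e)⁻¹ * m)⁻¹ = (ψ e)⁻¹ * (m * z * m⁻¹) * ψ e by group, h.mz, mul_assoc,
      (Commute.inv_left (h.zψ e).symm).eq, inv_mul_cancel_left]
  obtain ⟨e, ⟨e1, e2⟩ | ⟨e1, e2⟩⟩ := h.pair ((mem_Nz h.oz).mpr (.inr h.mz))
  · have h1 := mul_inv_eq_iff_eq_mul.mp (c e _ _ e2)
    refine absurd ?_ (h.iv _ (cz e) h1)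
    have h2 := comm_all (mul_inv_eq_iff_eq_mul.mp (c e _ _ e1)) h1 e⁻¹
    rw [map_inv] at h2
    rw [← mul_assoc, h2, ← mul_assoc, ← mul_inv_rev, ← map_mul, (X5 e).1 (h.ψi (by rw [← e1, h.ma, map_inv])), mul_assoc,
      h.mm, h.ψt, inv_mul_cancel]
  · refine ⟨(ψ e)⁻¹ * m, { h with mz := cz e, ma := (c e _ _ e1).trans (map_inv _ _), mm := ?_ }, c e _ _ e2⟩
    have h1 : ∀ i : ℕ, m * (ψ aX ^ i)⁻¹ * m⁻¹ = ψ aX ^ i := fun i => by rw [← conj_inv, ← conj_pow, h.ma, inv_pow, inv_inv]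
    have h2 : m * (ψ e)⁻¹ * m⁻¹ = ψ e := by
      obtain ⟨i, -, rfl | rfl⟩ := (X5 e).2 (h.ψi (by rw [← e1, h.ma, map_inv]))
      · rw [map_pow, h1]
      · rw [map_mul, map_pow, h.ψt, mul_inv_rev, inv_eq_of_mul_eq_one_right h.tt, ← h.tc, ← mul_assoc, mul_assoc _ t,
          ← h.tc, ← mul_assoc, h1]
    calc _ = (ψ e)⁻¹ * (m * (ψ e)⁻¹ * m⁻¹) * (m * m) := by group
      _ = t := by rw [h2, h.mm, inv_mul_cancel, one_mul]

theorem nf (mh : m * ψ hX * m⁻¹ = ψ uX) {H : Subgroup K} (hψ : ∀ x, ψ x ∈ H) (hm : m ∈ H) (hz : z ∈ H)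
    (hι : ∀ c, c * z * c⁻¹ = z⁻¹ → (∀ x, c * ψ x = ψ x * c) → c ∈ H) : Nz z ≤ H := fun g hg => by
  have h0 : ∀ x, ψ x ∈ Nz z := fun x => (mem_Nz h.oz).mpr (.inl (mul_inv_eq_iff_eq_mul.mpr (h.zψ x)))
  have h1 : ∀ c ∈ Nz z, c * ψ aX * c⁻¹ = ψ aX → c * ψ hX * c⁻¹ = ψ hX → c ∈ H := fun c hc e1 e2 => by
    have e3 := comm_all (mul_inv_eq_iff_eq_mul.mp e1) (mul_inv_eq_iff_eq_mul.mp e2)
    rcases (mem_Nz h.oz).mp hc with e | e
    · rcases h.cl c (mul_inv_eq_iff_eq_mul.mp e) e3 with e | e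
      exacts [zpowers_le.mpr hz e, (H.mul_mem_cancel_right (h.ψt ▸ hψ tX)).mp (zpowers_le.mpr hz e)]
    · exact hι c e e3
  have c : ∀ n v : K, g * v * g⁻¹ = n * v * n⁻¹ → n⁻¹ * g * v * (n⁻¹ * g)⁻¹ = v := fun n v e => by
    rw [show n⁻¹ * g * v * (n⁻¹ * g)⁻¹ = n⁻¹ * (g * v * g⁻¹) * n by group, e]
    group
  have c2 : ∀ e v : K, e * m * v * (e * m)⁻¹ = e * (m * v * m⁻¹) * e⁻¹ := fun e v => by group
  obtain ⟨e, ⟨e1, e2⟩ | ⟨e1, e2⟩⟩ := h.pair hg <;> simp only [map_mul, map_inv] at e1 e2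
  · exact (H.mul_mem_cancel_left (inv_mem (hψ e))).mp (h1 _ (mul_mem (inv_mem (h0 e)) hg) (c _ _ e1) (c _ _ e2))
  · exact (H.mul_mem_cancel_left (inv_mem (mul_mem (hψ e) hm))).mp (h1 _ (mul_mem (inv_mem (mul_mem (h0 e)
      ((mem_Nz h.oz).mpr (.inr h.mz)))) hg) (c _ _ (by rw [c2, h.ma, e1])) (c _ _ (by rw [c2, mh, e2])))

theorem a3 : ψ aX ^ 3 = 1 := by rw [← map_pow, X1.1, map_one]

variable {κ : K →* Y} (ks : Function.Surjective κ) (kk : ∀ g, κ g = 1 ↔ g = 1 ∨ g = t)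
include kk

theorem cube {x y : K} (hx : x ^ 3 = 1) (hy : y ^ 3 = 1) (e : κ x = κ y) : x = y := by
  refine (eq_or_of_ker kk e).resolve_right fun e => h.t1 ?_
  rwa [e, Commute.mul_pow (h.tc y), hy, one_mul, pow_three', h.tt, one_mul] at hx

theorem cjc (g : K) {x y : K} (hx : x ^ 3 = 1) (hy : y ^ 3 = 1) (e : κ g * κ x * (κ g)⁻¹ = κ y) : g * x * g⁻¹ = y :=
  h.cube kk (by rw [conj_pow, hx]; simp) hy (by simpa using e)

theorem κz {x : K} (hx : x ^ 3 = 1) (e : κ x ∈ zpowers (κ z)) : x ∈ zpowers z :=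
  let ⟨i, e⟩ := e
  ⟨i, h.cube kk (h.k3 (zpow_mem_zpowers z i)) hx ((map_zpow κ z i).trans e)⟩

include ks

theorem kb : KB (κ z) (κ (ψ aX)) (κ w) := by
  have z3 := h.k3 (mem_zpowers z)
  have h1 : closure {κ z, κ (ψ aX)} = (closure {z, ψ aX}).map κ := by rw [MonoidHom.map_closure, Set.image_pair]
  have h2 : ∀ d ∈ closure {z, ψ aX}, d ^ 3 = 1 := fun d hd => by
    obtain ⟨i, -, j, -, rfl⟩ := exists_pow_of_mem_closure z3 h.a3 (h.zψ _).symm hd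
    rw [(Commute.pow_pow (h.zψ _).symm i j).mul_pow, ← pow_mul, ← pow_mul, mul_comm i, mul_comm j, pow_mul, pow_mul, z3, h.a3]
    simp
  refine ⟨orderOf_eq_prime (by rw [← map_pow, z3, map_one]) fun e => ?_,
    fun e => X1.2.2.2.2.1 (h.inj _ (h.κz kk h.a3 e)), by rw [← map_mul, ← map_mul, h.zψ], by rw [← map_mul, h.ww, map_one],
    by rw [← h.wz]; simp, fun g e => ?_, fun g e => ?_⟩
  · simpa [h.cube kk z3 (one_pow 3) (e.trans (map_one κ).symm)] using h.oz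
  · obtain ⟨g, rfl⟩ := ks g
    obtain ⟨d, hd, e⟩ := h1 ▸ e
    have := h.cz g (h.cjc kk g z3 (h2 d hd) e.symm ▸ hd)
    simp only [← map_inv κ, ← map_mul]
    exact this.imp (Or.imp (congrArg κ) (congrArg κ)) (Or.imp (congrArg κ) (congrArg κ))
  · obtain ⟨g, rfl⟩ := ks g
    have h3 := h2 _ (mul_mem KB.zD KB.aD)
    obtain ⟨e1, e2⟩ := h.cy g (mul_inv_eq_iff_eq_mul.mp (h.cjc kk g h3 h3 (by rw [map_mul, e, mul_inv_cancel_right])))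
    refine mem_normalizer_of_conj_mem fun d hd =>
      (closure_le (K := (closure {κ z, κ (ψ aX)}).comap (MulAut.conj (κ g)).toMonoidHom)).mpr ?_ hd
    rw [h1]
    rintro x (e | e) <;> rw [e]
    exacts [⟨_, e1, by simp⟩, ⟨_, e2, by simp⟩]

theorem loc (mh : m * ψ hX * m⁻¹ = ψ uX) {H : Subgroup Y} (ha : κ (ψ aX) ∈ H) (hh : κ (ψ hX) ∈ H) (hm : κ m ∈ H)
    (hz : κ z ∈ H) (hι : ∀ c, c * z * c⁻¹ = z⁻¹ → (∀ x, c * ψ x = ψ x * c) → κ c ∈ H) (g : Y)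
    (hg : g * κ z * g⁻¹ ∈ zpowers (κ z)) : g ∈ H := by
  obtain ⟨g, rfl⟩ := ks g
  have z3 := h.k3 (mem_zpowers z)
  have h1 := h.κz kk (x := g * z * g⁻¹) (by rw [conj_pow, z3]; simp) (by simpa using hg)
  exact h.nf mh (H := H.comap κ) (X_top (K := H.comap (κ.comp ψ)) ha hh) hm hz hι ((mem_Nz h.oz).mpr
    ((mem_zpowers_three h.oz h1).resolve_left fun e => by simpa [conj_eq_one_iff.mp e] using h.oz))

omit ks in
theorem relL (mh : m * ψ hX * m⁻¹ = ψ uX) (l : List Y) : ∀ r ∈ relsL,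
    ev (κ (ψ aX) :: (κ (ψ aX))⁻¹ :: κ (ψ hX) :: (κ (ψ hX))⁻¹ :: κ z :: (κ z)⁻¹ :: κ m :: l) r = 1 := by
  obtain ⟨x1, x2, -, x4, -, -, -, -, -, x5, -⟩ := X1
  have t0 := (kk t).mpr (.inr rfl)
  have e1 : κ m * κ m = 1 := by rw [← map_mul, h.mm, t0]
  have e2 : κ (ψ aX) ^ 3 = 1 := by rw [← map_pow, h.a3, map_one]
  have e3 : κ (ψ hX) ^ 5 = 1 := by rw [← map_pow, ← map_pow, x2, map_one, map_one]
  have e4 : (κ (ψ aX) * κ (ψ hX)) ^ 2 = 1 := by rw [← map_mul, ← map_mul, ← map_pow, ← map_pow, x4, h.ψt, t0]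
  have e5 : κ z ^ 3 = 1 := by rw [← map_pow, h.k3 (mem_zpowers z), map_one]
  have e6 : ∀ x, κ z * (κ (ψ x) * ((κ z)⁻¹ * (κ (ψ x))⁻¹)) = 1 := fun x => by
    rw [← mul_assoc, ← map_mul, ← h.zψ, map_mul]
    group
  have e7 : ∀ x y, m * x * m⁻¹ = y → κ m * (κ x * (κ m * (κ y)⁻¹)) = 1 := fun x y e => by
    rw [← e, map_mul, map_mul, map_inv, inv_eq_of_mul_eq_one_right e1]
    group
  have e8 := e7 _ _ h.mz
  have e9 := e7 _ _ h.ma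
  have e10 := e7 _ _ mh
  simp only [x5, map_mul, map_inv, inv_inv, mul_inv_rev] at e8 e9 e10
  simp only [relsL, List.forall_mem_cons, ev, List.getD_cons_succ, List.getD_cons_zero, mul_one, mul_inv_cancel,
    inv_mul_cancel, true_and, e1, e6, e8, e9, e10]
  exact ⟨by simpa [pow_succ, mul_assoc] using e2, by simpa [pow_succ, mul_assoc] using e3,
    by simpa [pow_succ, mul_assoc] using e4, by simpa [pow_succ, mul_assoc] using e5, by simp⟩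

theorem alt (mh : m * ψ hX * m⁻¹ = ψ uX) (hι : ∀ c, c * z * c⁻¹ = z⁻¹ → ¬ ∀ x, c * ψ x = ψ x * c) :
    Nonempty (Y ≃* alternatingGroup (Fin 8)) := by
  obtain ⟨g1, g2, g3, g4, g5, g6⟩ := msL_gen
  obtain ⟨φ, hφ⟩ := hom_of_pres (ms := msL)
    (gs := [κ (ψ aX), (κ (ψ aX))⁻¹, κ (ψ hX), (κ (ψ hX))⁻¹, κ z, (κ z)⁻¹, κ m]) rfl (fun l hl => presL l hl) L8.card
    (L8.range_le (MonoidHom.id _) (g1 ▸ ev_mem_cl _ _) (g2 ▸ ev_mem_cl _ _) (g3 ▸ ev_mem_cl _ _) (g4 ▸ ev_mem_cl _ _)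
      (g5 ▸ ev_mem_cl _ _)) msL_rel (h.relL kk mh [])
  have b := h.kb ks kk
  have e1 : φ L8.z = κ z := g1 ▸ (hφ _).trans (mul_one _)
  have e2 : φ L8.a = κ (ψ aX) := g6 ▸ (hφ _).trans (mul_one _)
  have hl : L8.Loc φ := ⟨inj_of_test kerL (fun l a b c d => (L8.conj_a l a b c d).imp fun _ => And.right) (e1 ▸ b.z1)
    (e1 ▸ e2 ▸ b.az), e1 ▸ h.loc ks kk mh (H := φ.range) ⟨_, e2⟩ ⟨_, (hφ [2]).trans (mul_one _)⟩
      ⟨_, (hφ [6]).trans (mul_one _)⟩ ⟨_, e1⟩ fun c e e' => absurd e' (hι c e)⟩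
  rw [← e1, ← e2] at b
  exact L8.Hyp.equiv ⟨hl, b.ww, b.wz, b.wa, fun g e => b.cy' (fun _ => hl.cent_D) (by rwa [map_mul] at e),
    by rw [map_mul]; exact b.nc⟩ (b.syl fun _ _ e e' _ => hl.cent_D e e')

omit ks kk in
theorem invZ {c k : K} (e : c * z * c⁻¹ = z⁻¹) (hk : k ∈ zpowers z) : c * k * c⁻¹ = k⁻¹ := by
  obtain ⟨i, rfl⟩ := hk
  rw [← conj_zpow, e, inv_zpow]

omit ks kk in
theorem sqι {c : K} (e : c * z * c⁻¹ = z⁻¹) (e' : ∀ x, c * ψ x = ψ x * c) : c * c = t := by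
  have h1 : ∀ k ∈ zpowers z, c * k = k * c → k = 1 := fun k hk e1 => by
    have := h.invZ e hk
    rw [e1, mul_inv_cancel_right, eq_inv_iff_mul_eq_one] at this
    rw [← h.k3 hk, pow_three', this, one_mul]
  rcases h.cl (c * c) (sq_comm h.oz ((mem_Nz h.oz).mpr (.inr e))) (fun x => Commute.mul_left (e' x) (e' x)) with e1 | e1
  · exact absurd (h1 _ e1 (mul_assoc _ _ _).symm) (h.iv c e (e' _))
  · rw [← mul_left_inj t, h.tt, h1 _ e1 (by rw [mul_assoc _ t, ← h.tc, ← mul_assoc, ← mul_assoc, mul_assoc _ c t])]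

omit ks in
theorem clκ {c : K} (e : c * z = z * c) (e' : ∀ x, c * ψ x = ψ x * c) : ∃ k ∈ zpowers z, κ k = κ c :=
  (h.cl c e e').elim (fun e => ⟨_, e, rfl⟩) fun e => ⟨_, e, by rw [map_mul, (kk t).mpr (.inr rfl), mul_one]⟩

omit ks in
theorem adjι (mh : m * ψ hX * m⁻¹ = ψ uX) {c : K} (e : c * z * c⁻¹ = z⁻¹) (e' : ∀ x, c * ψ x = ψ x * c) :
    ∃ c : K, c * z * c⁻¹ = z⁻¹ ∧ (∀ x, c * ψ x = ψ x * c) ∧ κ c * κ m = κ m * κ c := by
  have h1 : ∀ v y, m * v * m⁻¹ = ψ y → m⁻¹ * c * m * v = v * (m⁻¹ * c * m) := fun v y e1 => by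
    calc _ = m⁻¹ * (c * (m * v * m⁻¹)) * m := by group
      _ = m⁻¹ * (m * v * m⁻¹ * c) * m := by rw [e1, e']
      _ = _ := by group
  obtain ⟨k, hk, e1⟩ := h.clκ kk (c := m⁻¹ * c * m * c⁻¹) (mul_inv_eq_iff_eq_mul.mp (by
      rw [show m⁻¹ * c * m * c⁻¹ * z * (m⁻¹ * c * m * c⁻¹)⁻¹ = m⁻¹ * (c * (m * (c⁻¹ * z * c) * m⁻¹) * c⁻¹) * m by group,
        inv_cj e, ← conj_inv, h.mz, inv_inv, e, ← h.mz]
      group))
    fun x => Commute.mul_left (comm_all (h1 _ aX⁻¹ (h.ma.trans (map_inv _ _).symm)) (h1 _ _ mh) x) (Commute.inv_left (e' x))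
  refine ⟨k⁻¹ * c, ?_, fun x => Commute.mul_left (Commute.inv_left (zc hk (h.zψ x)).symm) (e' x), ?_⟩
  · rw [show k⁻¹ * c * z * (k⁻¹ * c)⁻¹ = k⁻¹ * (c * z * c⁻¹) * k by group, e, mul_assoc, (Commute.inv_left (zc hk rfl)).eq,
      inv_mul_cancel_left]
  · have h2 := congrArg κ (h.invZ h.mz hk)
    have h3 := congrArg κ (h.k3 hk)
    simp only [map_mul, map_inv, map_pow, map_one] at e1 h2 h3 ⊢
    calc _ = κ m * κ k * (κ m)⁻¹ * κ m * ((κ m)⁻¹ * κ c * κ m * (κ c)⁻¹) * κ c := by rw [h2]; group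
      _ = κ m * ((κ k)⁻¹ * (κ k ^ 3) * κ c) := by rw [← e1]; simp [pow_succ, mul_assoc]
      _ = _ := by rw [h3, mul_one]

theorem sym (mh : m * ψ hX * m⁻¹ = ψ uX) {c : K} (e : c * z * c⁻¹ = z⁻¹) (e' : ∀ x, c * ψ x = ψ x * c)
    (cm : κ c * κ m = κ m * κ c) : Nonempty (Y ≃* Equiv.Perm (Fin 8)) := by
  obtain ⟨g1, g2, g3, g4, g5, g6⟩ := msP_gen
  have t0 := (kk t).mpr (.inr rfl)
  have c1 : κ c * κ c = 1 := by rw [← map_mul, h.sqι e e', t0]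
  have c2 : ∀ x y, κ c * x * (κ c)⁻¹ = y → κ c * (x * (κ c * y⁻¹)) = 1 := fun x y e => by
    rw [← e, inv_eq_of_mul_eq_one_right c1]
    group
  obtain ⟨φ, hφ⟩ := hom_of_pres (ms := msP) (gs := [κ (ψ aX), (κ (ψ aX))⁻¹, κ (ψ hX), (κ (ψ hX))⁻¹, κ z, (κ z)⁻¹, κ m, κ c])
    rfl (fun l hl => presP l hl) (by simp [Fintype.card_perm, Nat.factorial]) (S8.range_le (φ := MonoidHom.id _) (g1 ▸ ev_mem_cl _ _)
      (g2 ▸ ev_mem_cl _ _) fun i => g3 i ▸ ev_mem_cl _ _) msP_rel (by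
    rw [show relsP = relsL ++ [[7, 7], [7, 4, 7, 4], [7, 0, 7, 1], [7, 2, 7, 3], [7, 6, 7, 6]] from rfl,
      List.forall_mem_append]
    refine ⟨h.relL kk mh _, ?_⟩
    have c3 : ∀ x, κ c * (κ (ψ x) * (κ c * (κ (ψ x))⁻¹)) = 1 := fun x =>
      c2 _ _ (by rw [← map_mul, e', map_mul, mul_inv_cancel_right])
    have c4 := c2 (κ z) (κ z)⁻¹ (by simpa using congrArg κ e)
    have c5 := c2 (κ m) (κ m)⁻¹ (by
      rw [cm, mul_inv_cancel_right, eq_inv_iff_mul_eq_one, ← map_mul, h.mm, t0])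
    simp only [inv_inv] at c4 c5
    simp [ev, c1, c3, c4, c5])
  have b := h.kb ks kk
  have e1 : φ S8.z = κ z := g4 ▸ (hφ _).trans (mul_one _)
  have e2 : φ S8.a = κ (ψ aX) := g5 ▸ (hφ _).trans (mul_one _)
  have e3 : φ S8.t = κ c := g1 ▸ (hφ _).trans (mul_one _)
  have hl : S8.Loc φ := ⟨inj_of_test kerP (fun l a b c d => let ⟨k, e⟩ := S8.conj_a l a b c d; ⟨_, e⟩) (e1 ▸ b.z1)
    (e1 ▸ e2 ▸ b.az), e1 ▸ h.loc ks kk mh (H := φ.range) ⟨_, e2⟩ ⟨_, (hφ [2]).trans (mul_one _)⟩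
      ⟨_, (hφ [6]).trans (mul_one _)⟩ ⟨_, e1⟩ fun d f f' => by
        obtain ⟨k, ⟨i, rfl⟩, e4⟩ := h.clκ kk (c := d * c⁻¹) (mul_inv_eq_iff_eq_mul.mp (by
          rw [show d * c⁻¹ * z * (d * c⁻¹)⁻¹ = d * (c⁻¹ * z * c) * d⁻¹ by group,
            inv_cj e, ← conj_inv, f, inv_inv]))
          fun x => Commute.mul_left (f' x) (Commute.inv_left (e' x))
        exact ⟨S8.z ^ i * S8.t, by rw [map_mul, map_zpow, e1, e3, ← map_zpow, e4, ← map_mul, inv_mul_cancel_right]⟩⟩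
  rw [← e1, ← e2] at b
  obtain ⟨-, ⟨s1, s2, -⟩, ⟨-, -, -, s3, s4, s5, -⟩, -⟩ := S8.rel
  have hh : S8.Hyp φ (κ w) := ⟨hl, b.ww, b.wz, b.wa, fun g e => b.cy g (map_mul φ _ _ ▸ e), map_mul φ _ _ ▸ b.nc,
    b.syl fun g k e e' e'' => (hl.cent_D e e').2.elim id fun f => by
      have f1 := S8.D_cube f
      have f2 : Commute g (φ S8.c) := by
        simpa [mul_assoc, S8.cc] using Commute.mul_left (S8.c_comm f).symm (Commute.refl (φ S8.c))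
      have f3 : ((g * φ S8.c) ^ 3 ^ k) ^ 3 = 1 := by rw [← pow_mul, mul_comm, pow_mul, f1, one_pow]
      obtain ⟨n, hn⟩ := Odd.pow (n := k + 1) (by decide : Odd 3)
      rw [f2.mul_pow, e'', one_mul, ← pow_mul, ← pow_succ, hn, pow_succ, pow_mul, pow_two, S8.cc, one_pow, one_mul] at f3
      exact absurd (hl.eq1.mp f3) s2⟩
  have : ((centralizer (S8.D φ : Set Y)).subgroupOf (normalizer (S8.D φ : Set Y))).Normal := inferInstance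
  obtain ⟨eN⟩ := b.dih (S8.sq φ s3) (S8.cj φ s4) ((S8.cj φ s5).trans (map_inv _ _)) (D := S8.D φ) rfl
  obtain ⟨u, hu, f | f⟩ := hh.normalise
  · exact hu.sym8 f (hh.dich b.card9 eN)
  · obtain ⟨u, rfl⟩ := ks u
    have z3 := h.k3 (mem_zpowers z)
    have f1 := h.cjc kk u z3 h.a3 (e1 ▸ e2 ▸ hu.uz)
    have f2 := h.cjc kk u h.a3 z3 (e1 ▸ e2 ▸ hu.ua)
    rw [e3, ← g6, hφ, ← map_inv, ← map_mul, ← map_mul, show ev _ _ = κ (ψ (hX * hX * aX⁻¹ * hX * hX * aX⁻¹ * hX)) by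
      simp [ev, mul_assoc]] at f
    rcases eq_or_of_ker kk f with f | f
    exacts [absurd f (h.ex u c f1 f2 e (h.sqι e e') e' _),
      absurd (by rw [f, ← h.ψt, ← map_mul]) (h.ex u c f1 f2 e (h.sqι e e') e' _)]

omit ks kk in
theorem main : (∃ κ : K →* alternatingGroup (Fin 8), Function.Surjective κ ∧ ∀ g, κ g = 1 ↔ g = 1 ∨ g = t) ∨
    (∃ κ : K →* Equiv.Perm (Fin 8), Function.Surjective κ ∧ ∀ g, κ g = 1 ↔ g = 1 ∨ g = t) ∧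
      ∃ c : K, c * z * c⁻¹ = z⁻¹ ∧ c * c = t ∧ ∀ x, c * ψ x = ψ x * c := by
  obtain ⟨N, _, kk⟩ := exists_quot_inv h.tc h.tt
  obtain ⟨m, h, mh⟩ := h.adj
  have ks := QuotientGroup.mk'_surjective N
  by_cases h0 : ∀ c, c * z * c⁻¹ = z⁻¹ → ¬ ∀ x, c * ψ x = ψ x * c
  · obtain ⟨e⟩ := h.alt ks kk mh h0
    exact .inl ⟨e.toMonoidHom.comp _, e.surjective.comp ks, fun g => e.map_eq_one_iff.trans (kk g)⟩
  push Not at h0
  obtain ⟨c, e, e'⟩ := h0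
  obtain ⟨c, e, e', cm⟩ := h.adjι kk mh e e'
  obtain ⟨f⟩ := h.sym ks kk mh e e' cm
  exact .inr ⟨⟨f.toMonoidHom.comp _, f.surjective.comp ks, fun g => f.map_eq_one_iff.trans (kk g)⟩, c, e, h.sqι e e', e'⟩

end KH0

end Cfsg.Agent.McL3
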