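import Cfsg.Agent.McL3.End8
import Cfsg.Agent.McL3.KLoc

/-! The `3`-local characterization of the McLaughlin group. -/

set_option autoImplicit false
set_option linter.unusedSectionVars false

namespace Cfsg.Agent.McL3

open Cfsg.Agent.Mat Cfsg.Agent.Local Subgroup
open scoped Pointwise

set_option maxRecDepth 100000 in
theorem A11 : (∀ y : A, (∀ g, InN (g * y * g⁻¹)) → y = 1) ∧ ∃ y : A, y ^ 5 = 1 ∧ y ≠ 1 ∧ t0 * y * t0⁻¹ * y = 1 := by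
  decide +kernel

set_option maxRecDepth 100000 in
theorem X6 : ∃ y : X, y ^ 5 = 1 ∧ y ≠ 1 ∧ fX * y * fX⁻¹ = y⁻¹ := by decide +kernel

attribute [local irreducible] c0 d0 m0 t0 w0 r0 r1 aX hX tX uX fX gX

variable {G : Type*} [Group G] [Finite G] {z : G} {S Q J L M : Subgroup G} {ρ : L →* X} {π : M →* A} {m t w : M}

theorem inv_z {c k : G} (e : c * z * c⁻¹ = z⁻¹) (hk : k ∈ zpowers z) : c * k * c⁻¹ = k⁻¹ := by
  obtain ⟨i, rfl⟩ := hk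
  rw [← conj_zpow, e, inv_zpow]

theorem one_of_inv {k : G} (h3 : k ^ 3 = 1) (e : k = k⁻¹) : k = 1 := by
  rwa [pow_three', eq_inv_iff_mul_eq_one.mp e, one_mul] at h3

namespace H2

variable {ψ : X →* G} (h : H2 z S Q J L M ρ π m t w ψ)
include h

theorem jinv {ι : G} (e1 : ι * z * ι⁻¹ = z⁻¹) (e2 : ι * ι = t) (e3 : ∀ x, ι * ψ x = ψ x * ι) :
    ∃ ι : G, ι * t = t * ι ∧ ι * ι = t ∧ (∀ x, ι * ψ x = ψ x * ι) ∧ ∀ b ∈ J, ι * ψ fX * b * (ι * ψ fX)⁻¹ = b⁻¹ := by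
  have fN := h.LN (h.ψL fX)
  have fJ := h.NJa h.aJ h.aQ fN (.inr h.fa)
  have k1 : ∀ ι : G, ι * z * ι⁻¹ = z⁻¹ → ι * ψ fX ∈ Nz z := fun ι e => mul_mem ((mem_Nz h.oz).mpr (.inr e)) fN
  have k2 : ∀ ι : G, ι * z * ι⁻¹ = z⁻¹ → (∀ x, ι * ψ x = ψ x * ι) → ι * ψ fX ∈ normalizer (J : Set G) := fun ι e e' =>
    mul_mem (h.ιJ ((mem_Nz h.oz).mpr (.inr e)) (e' _)) fJ
  have k3 : ∀ ι : G, ι * ι = t → (∀ x, ι * ψ x = ψ x * ι) → ι * ψ fX * (ι * ψ fX) = 1 := fun ι e e' => by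
    rw [← pow_two, Commute.mul_pow (e' _), pow_two, pow_two, e, h.ff, h.tt']
  obtain ⟨ι, e1, e2, e3, e4⟩ : ∃ ι : G, ι * z * ι⁻¹ = z⁻¹ ∧ ι * ι = t ∧ (∀ x, ι * ψ x = ψ x * ι) ∧
      Iv z (Q ⊓ J) (ι * ψ fX) := by
    rcases h.WL (k1 ι e1) (k2 ι e1 e3) (k3 ι e2 e3 ▸ one_mem _) fN fJ (by rw [← mul_assoc, e3]) (h.ff ▸ h.ti) with e | e
    · exact ⟨ι, e1, e2, e3, e⟩
    have c : Commute ι t := h.ψt ▸ e3 tX
    refine ⟨ι * t, by rw [mul_assoc ι, h.tz, ← e1]; group, by rw [← pow_two, c.mul_pow, pow_two, pow_two, e2, h.tt', mul_one],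
      fun x => Commute.mul_left (e3 x) (h.tψ x).symm, fun b hb => ?_⟩
    have := mul_mem (conj_mem_of_mem_normalizer (k1 ι e1) (h.ti b hb.1)) (e (inv_mem hb)).2
    rwa [show ι * ψ fX * (t * b * t.1⁻¹ * b) * (ι * ψ fX)⁻¹ * (ι * ψ fX * b⁻¹ * (ι * ψ fX)⁻¹ * b⁻¹⁻¹) =
      ι * (ψ fX * t) * b * (ι * (ψ fX * t))⁻¹ * b by group, h.tψ, ← mul_assoc ι] at this
  have j1 : ι * ψ fX * z * (ι * ψ fX)⁻¹ = z⁻¹ := by rw [mul_assoc ι, h.zψ, ← e1]; group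
  have j2 : ι * ψ fX * ψ aX * (ι * ψ fX)⁻¹ = (ψ aX)⁻¹ := by
    rw [show ι * ψ fX * ψ aX * (ι * ψ fX)⁻¹ = ι * (ψ fX * ψ aX * (ψ fX)⁻¹) * ι⁻¹ by group, h.ψa, h.fa, ← h.ψa, ← map_inv,
      e3, mul_inv_cancel_right]
  have j3 := k2 ι e1 e3
  have j4 := k3 ι e2 e3
  refine ⟨ι, h.ψt ▸ e3 tX, e2, e3, fun b hb => ?_⟩
  generalize ι * ψ fX = j at *
  have h1 : ∀ b ∈ J, j * b * j⁻¹ = b → b = 1 := fun b hb e => by
    obtain ⟨i, hi⟩ := h.SQ (h.JS h.aJ) h.aQ (h.JS hb)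
    have := e4 _ ⟨hi, mul_mem hb (zpow_mem h.aJ i)⟩
    rw [← conj_mul, e, ← conj_zpow, ← h.ψa, j2, h.ψa, inv_zpow, h.Jc b hb _ (zpow_mem h.aJ i), mul_assoc,
      inv_mul_cancel_left] at this
    exact one_of_inv (h.J3 b hb) (e.symm.trans (inv_z j1 (sq_mem (h.J3 b hb ▸ one_mem _) this)))
  have h2 := conj_mem_of_mem_normalizer j3 hb
  refine eq_inv_of_mul_eq_one_left (h1 _ (mul_mem h2 hb) ?_)
  rw [← conj_mul, show j * (j * b * j⁻¹) * j⁻¹ = j * j * b * (j * j)⁻¹ by group, j4, one_mul, inv_one, mul_one,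
    h.Jc b hb _ h2]

theorem liftj {j : G} (hj : ∀ b ∈ J, j * b * j⁻¹ = b⁻¹) (y : A) : ∃ x : M, π x = y ∧ j * x * j⁻¹ = x := by
  obtain ⟨x, rfl⟩ := h.πs y
  have h0 : j ∈ normalizer (J : Set G) := mem_normalizer_of_conj_mem fun b hb => hj b hb ▸ inv_mem hb
  have h1 := mul_mem (conj_mem_of_mem_normalizer (h.nM h0) x.2) (inv_mem x.2)
  have h2 : ∀ b ∈ J, j * x * j⁻¹ * x.1⁻¹ * b * (j * x * j⁻¹ * x.1⁻¹)⁻¹ = b := fun b hb => by
    have h3 := h.cjJ x⁻¹ hb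
    have h4 := hj _ (inv_mem h3)
    rw [inv_inv] at h4
    calc _ = j * (x * (j⁻¹ * (x⁻¹.1 * b * x⁻¹.1⁻¹) * j) * x.1⁻¹) * j⁻¹ := by simp [mul_assoc]
      _ = j * b⁻¹ * j⁻¹ := by rw [← h4]; simp [mul_assoc]
      _ = b := by rw [hj _ (inv_mem hb), inv_inv]
  have h3 : π ⟨_, h1⟩ = 1 := A11.1 _ fun g => by
    obtain ⟨g, rfl⟩ := h.πs g
    rw [← map_inv, ← map_mul, ← map_mul, h.πN]
    refine (mem_Nz h.oz).mpr (.inl ?_)
    calc _ = g * (j * x * j⁻¹ * x.1⁻¹ * (g⁻¹.1 * z * g⁻¹.1⁻¹) * (j * x * j⁻¹ * x.1⁻¹)⁻¹) * g.1⁻¹ := by simp [mul_assoc]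
      _ = z := by rw [h2 _ (h.cjJ g⁻¹ h.zJ)]; simp [mul_assoc]
  have h4 := (h.πk _).mp h3
  refine ⟨⟨_, h1⟩⁻¹ * x, by rw [map_mul, map_inv, h3, inv_one, one_mul], ?_⟩
  rw [coe_mul, coe_inv, ← conj_mul, hj _ (inv_mem h4), inv_inv, inv_eq_of_mul_eq_one_right ((pow_three _).symm.trans
    (h.J3 _ h4))]
  group

theorem final : Nonempty (G ≃* Spor.McL) ∨ Nonempty (G ≃* MulAut Spor.McL) := by
  obtain ⟨t', z', m', w', ψ', k, e1, e2, e3⟩ := h.exists_KH0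
  obtain ⟨r, hr⟩ := h.wt_conj
  obtain ⟨-, -, -, a4, -, -, -, -, a9, a10, -, -, -, -, -, a16, -⟩ := A1
  obtain ⟨-, -, -, -, -, -, -, -, -, -, x1, -, x2, -⟩ := X1
  have wt : w ≠ t := fun e => a10 (by rw [← h.πw, ← h.πt, e, ← map_mul, h.tt, map_one])
  have ff : ψ' fX * ψ' fX = t' := by rw [← map_mul, x1, k.ψt]
  rcases k.main with ⟨κ, ks, kk⟩ | ⟨⟨κ, ks, kk⟩, c, c1, c2, c3⟩
  · obtain ⟨xs, D⟩ := McL.exists_dg h.t1 (cover ff k.t1 k.tc ks kk)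
    have hr' : r * t.1 * r.1⁻¹ = w := congrArg Subtype.val hr
    exact .inl (D.iso h.t1 fun e => wt (Subtype.ext (hr'.symm.trans (e r (by rw [hr']; exact h.wt'.symm)))))
  obtain ⟨ι, i1, i2, i3, i4⟩ := h.jinv (ι := c) (e2 ▸ congrArg Subtype.val c1) ((congrArg Subtype.val c2).trans e1)
    fun x => e3 x ▸ congrArg Subtype.val (c3 x)
  obtain ⟨y, y5, y1, fy⟩ := X6
  let ι' : centralizer {t.1} := ⟨ι, mem_centralizer_singleton_iff.mpr i1⟩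
  have i5 : ∀ x, ι' * ψ' x = ψ' x * ι' := fun x => Subtype.ext (by rw [coe_mul, coe_mul, e3]; exact i3 x)
  have s : KS t' (ψ' fX) (ψ' y) ι' (ψ' gX) κ := ⟨k.tc, k.t1, ks, kk, ff, by
      obtain ⟨u, v, e⟩ := (X2 fX).2.2.2.2
      simp [e, Int.units_mul_self], by rw [← map_pow, y5, map_one], fun e => y1 (k.ψi (e.trans (map_one _).symm)),
    by rw [← map_inv, ← map_inv, ← map_mul, ← map_mul, fy], Subtype.ext (i2.trans e1.symm), i5 _, i5 _,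
    by rw [← k.ψt, ← map_inv, ← map_mul, ← map_mul, ← map_mul, x2], i5 _⟩
  have hM : ∀ H : Subgroup G, H.index = 2 → M ≤ H := fun H hH => h.Mle H fun g n e => by
    obtain ⟨n, hn⟩ := Odd.pow (n := n) (by decide : Odd 3)
    have := mul_self_mem_of_index_two hH (g ^ (n + 1))
    rwa [← pow_add, show n + 1 + (n + 1) = 2 * n + 1 + 1 by ring, pow_succ, ← hn, e, one_mul] at this
  refine .inr (endS s e1 (w := ⟨w, mem_centralizer_singleton_iff.mpr h.wt'⟩) (r := r) (fun e => ?_) (Subtype.ext h.ww')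
    (fun e => wt (Subtype.ext ((congrArg Subtype.val e).trans e1))) (congrArg Subtype.val hr) ?_
    (fun H hH => hM H hH r.2) fun H hH c hc => ?_)
  · obtain ⟨x, hx⟩ := isConj_iff.mp e
    rw [coe_mul, e3] at hx
    change _ = ι * _ at hx
    rw [← hx] at i4
    obtain ⟨v0, v1, v2, v3⟩ := A11.2
    obtain ⟨n, n1, n2⟩ := h.liftj i4 m0
    obtain ⟨v, rfl, n3⟩ := h.liftj i4 v0
    let φ := (MulAut.conj x⁻¹).toMonoidHom.comp M.subtype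
    have f1 : ∀ u : M, x * t * x⁻¹ * u * (x * t * x⁻¹)⁻¹ = u → φ u ∈ centralizer {t.1} := fun u e =>
      mem_centralizer_singleton_iff.mpr (by
        calc x⁻¹ * u * x⁻¹⁻¹ * t = x⁻¹ * (x * t * x⁻¹ * u * (x * t * x⁻¹)⁻¹) * x⁻¹⁻¹ * t := by rw [e]
          _ = t * (x⁻¹ * u * x⁻¹⁻¹) := by group)
    have f2 : ∀ u : M, φ u ∈ centralizer {t.1} → π u = 1 → φ u = 1 := fun u e e' => by
      have h1 := (h.πk u).mp e'
      rw [show u = 1 from Subtype.ext (one_of_inv (h.J3 _ h1) ((i4 _ h1).symm.trans (by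
        calc _ = x * (t * (x⁻¹ * u * x⁻¹⁻¹)) * t.1⁻¹ * x⁻¹ := by group
          _ = _ := by rw [← show x⁻¹ * u * x⁻¹⁻¹ * t = t * (x⁻¹ * u * x⁻¹⁻¹) from mem_centralizer_singleton_iff.mp e]; group
            )).symm), map_one]
    have f3 : ∀ u : M, φ u = 1 → π u = 1 := fun u e => by
      rw [show u = 1 from Subtype.ext (conj_eq_one_iff.mp e), map_one]
    have f4 : π (n * n) = t0 := by rw [map_mul, n1, ← h.πt, ← h.mm, map_mul, h.πm]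
    have f5 := f1 n n2
    have f6 := f1 v n3
    refine s.not_inv (m := ⟨_, f5⟩) (w := ⟨_, f6⟩) (Subtype.ext ?_) (fun e => a4 (f4 ▸ f3 _ ?_)) (fun e => h.zi ?_)
      (Subtype.ext ?_) (fun e => v2 (f3 _ (congrArg Subtype.val e))) (Subtype.ext (eq_inv_of_mul_eq_one_left ?_))
    · simpa using f2 (n * n * (n * n)) (by simpa using mul_mem (mul_mem f5 f5) (mul_mem f5 f5))
        (by rw [map_mul, f4, ← h.πt, ← map_mul, h.tt, map_one])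
    · simpa using congrArg Subtype.val e
    · have h1 : φ (n * n) = t := by simpa [e1] using congrArg Subtype.val e
      rw [← i4 z h.zJ, ← h1, show x * φ (n * n) * x⁻¹ = (n * n).1 by simp [φ, mul_assoc], h.act (f4.trans h.πt.symm) h.zJ,
        h.tz, mul_inv_cancel_right]
    · exact (map_pow φ v 5).symm.trans (f2 (v ^ 5) (map_pow φ v 5 ▸ pow_mem f6 5) (by rw [map_pow, v1]))
    · simpa using f2 (n * n * v * (n * n)⁻¹ * v) (by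
        simpa using mul_mem (mul_mem (mul_mem (mul_mem f5 f5) f6) (inv_mem (mul_mem f5 f5))) f6)
        (by rw [map_mul, map_mul, map_mul, map_inv, f4, v3])
  · obtain ⟨u, hu⟩ := h.πs r0
    obtain ⟨v, hv⟩ := h.conj_inv (v := u⁻¹ * w * u⁻¹⁻¹) (v' := w * t) (by rw [conj_mul, h.ww]; simp)
      (by rw [mul_assoc, ← mul_assoc t, ← h.wt, mul_assoc, h.tt, mul_one, h.ww])
      (by rw [h.wt, inv_inv, map_mul, map_mul, map_mul, map_inv, hu, h.πw, h.πt, a16])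
    exact isConj_iff.mpr ⟨(v * u⁻¹ * r).1, (congrArg Subtype.val (McL.conj_comp hr (McL.conj_comp rfl hv))).trans (by
      rw [coe_mul, coe_mul, e1])⟩
  · have h1 := h.CQ fun q hq => hc q (hM H hH (h.SM (h.QS hq)))
    have h2 := inv_z h.minv.1 (h.CQt h1 (hc _ (hM H hH t.2)).symm)
    rw [← hc _ (hM H hH m.2), mul_inv_cancel_right] at h2
    exact one_of_inv (h.Q3 c h1) h2

end H2

end Cfsg.Agent.McL3
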