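import Cfsg.Agent.McL3.KDec
import Cfsg.Agent.McL3.PLoc
import Cfsg.Agent.Local.Coprime

/-! The quotient of the centralizer by the involution. -/

set_option autoImplicit false
set_option linter.unusedSectionVars false

namespace Cfsg.Agent.McL3

open Cfsg.Agent.Mat Cfsg.Agent.Local Cfsg.Agent.Char Subgroup
open scoped Pointwise

variable {Y : Type*} [Group Y] [Finite Y]

theorem hom_of_pres {M : Type*} [Group M] [Finite M] {ms : List M} {gs : List Y} (hl : ms.length = gs.length)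
    {rels : List (List ℕ)} {N : ℕ}
    (hP : ∀ l : List (M × Y), l.length = gs.length → (∀ r ∈ rels, ev l r = 1) → Nat.card (cl l) ≤ N)
    (hN : Nat.card M = N) (top : ∀ x, x ∈ cl ms) (hM : ∀ r ∈ rels, ev ms r = 1) (hG : ∀ r ∈ rels, ev gs r = 1) :
    ∃ φ : M →* Y, ∀ w, φ (ev ms w) = ev gs w := by
  obtain ⟨f, hf⟩ := exists_hom_words hl hP (by rw [show cl ms = ⊤ from eq_top_iff.mpr fun x _ => top x, card_top, hN]) hM hG
  exact ⟨f.comp ((MonoidHom.id M).codRestrict _ top), hf⟩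

theorem inj_of_test {M : Type*} [Group M] {φ : M →* Y} {z a : M} {ks : List M}
    (test : ∀ l, l ≠ 1 → ∃ k ∈ ks, (l * (k * l * k⁻¹)) ^ 3 = 1 ∧ l * (k * l * k⁻¹) ≠ 1)
    (cls : ∀ l, l ^ 3 = 1 → l ≠ 1 → l ≠ z → l ≠ z⁻¹ →
      ∃ k, k * a * k⁻¹ = l ∨ k * (z * a) * k⁻¹ = l ∨ k * (z⁻¹ * a) * k⁻¹ = l)
    (h1 : φ z ≠ 1) (h2 : φ a ∉ zpowers (φ z)) : Function.Injective φ := by
  refine (injective_iff_map_eq_one φ).mpr fun l hl => by_contra fun l1 => ?_
  obtain ⟨k, -, e1, e2⟩ := test l l1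
  have h3 : φ (l * (k * l * k⁻¹)) = 1 := by simp [hl]
  obtain ⟨j, e | e | e⟩ := cls _ e1 e2 (fun e => h1 (e ▸ h3)) fun e => h1 (by rwa [e, map_inv, inv_eq_one] at h3) <;>
    rw [← e, map_mul, map_mul, map_inv, conj_eq_one_iff] at h3
  · exact h2 (h3 ▸ one_mem _)
  · rw [map_mul, mul_eq_one_iff_inv_eq] at h3
    exact h2 (h3 ▸ inv_mem (mem_zpowers _))
  · rw [map_mul, map_inv, inv_mul_eq_one] at h3
    exact h2 (h3 ▸ mem_zpowers _)

/-- The fusion data of the Sylow `3`-subgroup. -/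
structure KB (z a w : Y) : Prop where
  oz : orderOf z = 3
  az : a ∉ zpowers z
  za : z * a = a * z
  ww : w * w = 1
  wz : w * z * w⁻¹ = a
  cz : ∀ g, g * z * g⁻¹ ∈ closure {z, a} → (g * z * g⁻¹ = z ∨ g * z * g⁻¹ = z⁻¹) ∨ g * z * g⁻¹ = a ∨ g * z * g⁻¹ = a⁻¹
  cy : ∀ g, g * (z * a) = z * a * g → g ∈ normalizer (closure {z, a} : Subgroup Y)

namespace KB

variable {z a w g : Y} (h : KB z a w)
include h

theorem wi : w⁻¹ = w := inv_eq_of_mul_eq_one_right h.ww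

theorem wa : w * a * w⁻¹ = z := by
  rw [← h.wz, h.wi, ← mul_assoc, ← mul_assoc, h.ww, one_mul, mul_assoc, h.ww, mul_one]

omit h in
theorem zD : z ∈ closure {z, a} := subset_closure (by simp)

omit h in
theorem aD : a ∈ closure {z, a} := subset_closure (by simp)

theorem z1 : z ≠ 1 := fun e => by simpa [e] using h.oz

theorem z3 : z ^ 3 = 1 := h.oz ▸ pow_orderOf_eq_one z

theorem a3 : a ^ 3 = 1 := by rw [← h.wz, conj_pow, h.z3]; simp

theorem zi : z ≠ z⁻¹ := fun e => h.z1 (by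
  have := h.z3
  rwa [pow_three', eq_inv_iff_mul_eq_one.mp e, one_mul] at this)

theorem not_cls {i : ℤ} (hi : z ^ i ≠ 1) (g : Y) : g * z * g⁻¹ ≠ z ^ i * a := fun e => by
  have h1 := h.cz g (e ▸ mul_mem (zpow_mem zD i) aD)
  rw [e] at h1
  rcases h1 with (e | e) | e | e
  · exact h.az (eq_inv_mul_of_mul_eq e ▸ mul_mem (inv_mem (zpow_mem_zpowers z i)) (mem_zpowers z))
  · exact h.az (eq_inv_mul_of_mul_eq e ▸ mul_mem (inv_mem (zpow_mem_zpowers z i)) (inv_mem (mem_zpowers z)))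
  · exact hi (mul_eq_right.mp e)
  · refine h.az (sq_mem (h.a3 ▸ one_mem _) ?_)
    rw [eq_inv_iff_mul_eq_one, mul_assoc, mul_eq_one_iff_inv_eq] at e
    exact e ▸ inv_mem (zpow_mem_zpowers z i)

theorem nc : ¬ IsConj z (z * a) := fun e =>
  let ⟨g, hg⟩ := isConj_iff.mp e
  h.not_cls (i := 1) (by simpa using h.z1) g (by rwa [zpow_one])

theorem ca (hg : g ∈ normalizer (closure {z, a} : Subgroup Y)) :
    (g * a * g⁻¹ = z ∨ g * a * g⁻¹ = z⁻¹) ∨ g * a * g⁻¹ = a ∨ g * a * g⁻¹ = a⁻¹ := by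
  have e : g * w * z * (g * w)⁻¹ = g * a * g⁻¹ := by rw [← h.wz]; group
  exact e ▸ h.cz (g * w) (e ▸ conj_mem_of_mem_normalizer hg aD)

theorem wN : w ∈ normalizer (closure {z, a} : Subgroup Y) := by
  refine mem_normalizer_iff_conj_smul_eq.mpr ?_
  rw [conj_smul_eq_map, MonoidHom.map_closure, Set.image_pair]
  show closure {w * z * w⁻¹, w * a * w⁻¹} = _
  rw [h.wz, h.wa, Set.pair_comm]

theorem sq_a (hg : g ∈ normalizer (closure {z, a} : Subgroup Y)) (e : g ∈ Nz z) :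
    g * a * g⁻¹ = a ∨ g * a * g⁻¹ = a⁻¹ := (h.ca hg).resolve_left fun e1 => h.az (by
  simpa [mul_assoc] using inv_conj_mem_of_mem_normalizer e
    (show g * a * g⁻¹ ∈ zpowers z by rcases e1 with e1 | e1 <;> simp [e1]))

theorem oa : orderOf a = 3 := orderOf_eq_prime h.a3 fun e => h.az (e ▸ one_mem _)

theorem split (hg : g ∈ normalizer (closure {z, a} : Subgroup Y)) : g ∈ Nz z ∨ w * g ∈ Nz z := by
  refine (h.cz g (conj_mem_of_mem_normalizer hg zD)).imp (mem_Nz h.oz).mpr fun e => (mem_Nz h.oz).mpr ?_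
  rw [show w * g * z * (w * g)⁻¹ = w * (g * z * g⁻¹) * w⁻¹ by group]
  exact e.imp (fun e => by rw [e, h.wa]) fun e => by rw [e, ← conj_inv, h.wa]

theorem sqN (hg : g ∈ normalizer (closure {z, a} : Subgroup Y)) : g * g ∈ Nz z := by
  rcases h.split hg with e | e
  · exact mul_mem e e
  have e1 : g * w ∈ Nz z := (mem_Nz h.oz).mpr (by
    have := h.sq_a (mul_mem h.wN hg) e
    rw [show g * w * z * (g * w)⁻¹ = w⁻¹ * (w * g * (w * z * w⁻¹) * (w * g)⁻¹) * w⁻¹⁻¹ by group, h.wz, h.wi]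
    exact this.imp (fun e => by rw [e, h.wa]) fun e => by rw [e, ← conj_inv, h.wa])
  simpa [mul_assoc, ← mul_assoc w, h.ww] using mul_mem e1 e

theorem four (hg : g ∈ normalizer (closure {z, a} : Subgroup Y)) :
    g * g * (g * g) * z = z * (g * g * (g * g)) ∧ g * g * (g * g) * a = a * (g * g * (g * g)) :=
  ⟨sq_comm h.oz (h.sqN hg), sq_comm h.oa ((mem_Nz h.oa).mpr (h.sq_a (mul_mem hg hg) (h.sqN hg)))⟩

theorem cube {d : Y} (hd : d ∈ closure {z, a}) : d ^ 3 = 1 := by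
  obtain ⟨i, -, j, -, rfl⟩ := exists_pow_of_mem_closure h.z3 h.a3 h.za hd
  rw [(Commute.pow_pow h.za i j).mul_pow, ← pow_mul, ← pow_mul, mul_comm i, mul_comm j, pow_mul, pow_mul, h.z3, h.a3]
  simp

theorem syl (e : ∀ g k, g * z = z * g → g * a = a * g → g ^ 3 ^ k = 1 → g ∈ closure {z, a}) :
    IsSylowIn 3 (closure {z, a}) ⊤ := by
  have h1 : IsPGroup 3 (closure {z, a} : Subgroup Y) := fun d => ⟨1, Subtype.ext (h.cube d.2)⟩
  refine isSylowIn_of_isSylowIn_normalizer le_top (isSylowIn_of_maximal (le_inf le_top le_normalizer) h1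
    fun R hR h2 h3 => le_antisymm (fun g hg => ?_) h2)
  obtain ⟨k, hk⟩ := hR ⟨g, hg⟩
  have h4 : g ^ 3 ^ k = 1 := congrArg Subtype.val hk
  obtain ⟨h5, h6⟩ := h.four (h3 hg).2
  have h7 : g ∈ zpowers (g * g * (g * g)) := by
    rw [show g * g * (g * g) = g ^ 4 by simp [pow_succ, mul_assoc]]
    exact mem_zpowers_pow_iff.mpr ((Nat.Coprime.pow_right k (by decide : Nat.Coprime 4 3)).coprime_dvd_right
      (orderOf_dvd_of_pow_eq_one h4))
  exact e g k (zc h7 h5.symm).symm (zc h7 h6.symm).symm h4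

theorem cy' (e : ∀ g, g * z = z * g → g * a = a * g → g ∈ closure {z, a}) (hg : g * (z * a) = z * a * g) :
    g ∈ closure {z, a} ∨ g * w ∈ closure {z, a} := by
  have h1 : ∀ g, g * (z * a) = z * a * g → g ∈ Nz z → g ∈ closure {z, a} := fun g hg hz => by
    have h2 : g * z * g⁻¹ * (g * a * g⁻¹) = z * a := by rw [conj_mul, hg, mul_inv_cancel_right]
    rcases (mem_Nz h.oz).mp hz with e1 | e1 <;> rw [e1] at h2
    · exact e g (mul_inv_eq_iff_eq_mul.mp e1) (mul_inv_eq_iff_eq_mul.mp (mul_left_cancel h2))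
    · refine absurd ?_ (h.not_cls (i := 2) (fun e => h.zi (eq_inv_of_mul_eq_one_left (by rwa [zpow_two] at e))) (g * w))
      rw [zpow_two, mul_assoc z, ← h2, mul_inv_cancel_left, ← h.wz]
      group
  have h2 : w * (z * a) = z * a * w := mul_inv_eq_iff_eq_mul.mp (by rw [← conj_mul, h.wz, h.wa, h.za])
  refine (h.split (h.cy g hg)).imp (h1 g hg) fun e => ?_
  simpa [mul_assoc, ← mul_assoc w, h.ww, h.wi] using conj_mem_of_mem_normalizer h.wN (h1 _ (Commute.mul_left h2 hg) e)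

theorem cen (h1 : g * z = z * g) (h2 : g * a = a * g) : g ∈ centralizer (closure {z, a} : Subgroup Y) := by
  rw [centralizer_closure]
  rintro x (e | e) <;> rw [e]
  exacts [h1.symm, h2.symm]

theorem dih {s : Y} (ss : s * s = 1) (sz : s * z * s⁻¹ = z) (sa : s * a * s⁻¹ = a⁻¹) {D : Subgroup Y}
    (hD : D = closure {z, a}) [((centralizer (D : Set Y)).subgroupOf (normalizer (D : Set Y))).Normal] :
    Nonempty (normalizer (D : Set Y) ⧸ (centralizer (D : Set Y)).subgroupOf (normalizer (D : Set Y)) ≃*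
      DihedralGroup 4) := by
  subst hD
  have sN : s ∈ normalizer (closure {z, a} : Subgroup Y) := mem_normalizer_of_conj_mem fun d hd =>
    (closure_le (K := (closure {z, a}).comap (MulAut.conj s).toMonoidHom)).mpr (by
      rintro x (e | e) <;> rw [e]
      exacts [show s * z * s⁻¹ ∈ closure {z, a} from sz.symm ▸ zD,
        show s * a * s⁻¹ ∈ closure {z, a} from sa.symm ▸ inv_mem aD]) hd
  let f := QuotientGroup.mk' ((centralizer ((closure {z, a} : Subgroup Y) : Set Y)).subgroupOf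
    (normalizer ((closure {z, a} : Subgroup Y) : Set Y)))
  have f1 : ∀ x, f x = 1 ↔ x.1 ∈ centralizer (closure {z, a} : Subgroup Y) := fun x => QuotientGroup.eq_one_iff x
  have e1 : f (⟨w, h.wN⟩ * ⟨w, h.wN⟩) = 1 := (f1 _).mpr (show w * w ∈ _ from h.ww ▸ one_mem _)
  obtain ⟨φ, hφ⟩ := hom_of_pres (ms := msD) (gs := [f ⟨w * s, mul_mem h.wN sN⟩, (f ⟨w * s, mul_mem h.wN sN⟩)⁻¹, f ⟨w, h.wN⟩])
    rfl (fun l hl => presD l hl) DihedralGroup.nat_card (fun l => by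
      obtain ⟨v, -, rfl⟩ := (msD_gen l).1
      exact ev_mem_cl _ _) msD_rel (by
      simp only [relsD, List.forall_mem_cons, ev, List.getD_cons_succ, List.getD_cons_zero, mul_one,
        mul_inv_cancel, inv_mul_cancel, true_and, ← map_mul, e1, f1]
      refine ⟨by simpa [mul_assoc] using h.cen (h.four (mul_mem h.wN sN)).1 (h.four (mul_mem h.wN sN)).2, ?_, by simp⟩
      simp [← mul_assoc, h.ww, ss, one_mem])
  refine ⟨(MulEquiv.ofBijective φ ⟨(injective_iff_map_eq_one φ).mpr fun l hl => by_contra fun l1 => ?_, fun x => ?_⟩).symm⟩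
  · have h1 : φ (ev msD [0, 0]) = 1 := by
      rcases (msD_gen l).2 l1 with e | ⟨k, e⟩ <;> simp [← e, hl]
    have h2 : z * (w * s * (w * s * 1)) = w * s * (w * s * 1) * z :=
      (f1 (⟨w * s, mul_mem h.wN sN⟩ * (⟨w * s, mul_mem h.wN sN⟩ * 1))).mp (hφ [0, 0] ▸ h1 :) z zD
    refine h.zi ?_
    calc z = w * s * (w * s * 1) * z * (w * s * (w * s * 1))⁻¹ := by rw [← h2, mul_inv_cancel_right]
      _ = w * (s * (w * (s * z * s⁻¹) * w⁻¹) * s⁻¹) * w⁻¹ := by group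
      _ = _ := by rw [sz, h.wz, sa, ← conj_inv, h.wa]
  · obtain ⟨⟨n, hn⟩, rfl⟩ := QuotientGroup.mk'_surjective _ x
    let R := (φ.range.comap f).map (normalizer ((closure {z, a} : Subgroup Y) : Set Y)).subtype
    have r1 : w ∈ R := ⟨⟨w, h.wN⟩, ⟨_, (hφ [2]).trans (mul_one _)⟩, rfl⟩
    have r2 : s ∈ R := by
      simpa using mul_mem (inv_mem r1) (⟨⟨w * s, mul_mem h.wN sN⟩, ⟨_, (hφ [0]).trans (mul_one _)⟩, rfl⟩ : w * s ∈ R)
    have r3 : ∀ g ∈ normalizer (closure {z, a} : Subgroup Y), g * z * g⁻¹ = z → g ∈ R := fun g hg e => by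
      have r4 : ∀ g ∈ normalizer (closure {z, a} : Subgroup Y), g * z * g⁻¹ = z → g * a * g⁻¹ = a → g ∈ R :=
        fun g hg e e' => ⟨⟨g, hg⟩, ⟨1, (map_one φ).trans ((f1 ⟨g, hg⟩).mpr
          (h.cen (mul_inv_eq_iff_eq_mul.mp e) (mul_inv_eq_iff_eq_mul.mp e'))).symm⟩, rfl⟩
      rcases h.sq_a hg ((mem_Nz h.oz).mpr (.inl e)) with e' | e'
      · exact r4 g hg e e'
      · simpa using mul_mem (inv_mem r2) (r4 _ (mul_mem sN hg)
          (by rw [show s * g * z * (s * g)⁻¹ = s * (g * z * g⁻¹) * s⁻¹ by group, e, sz])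
          (by rw [show s * g * a * (s * g)⁻¹ = s * (g * a * g⁻¹) * s⁻¹ by group, e', ← conj_inv, sa, inv_inv]))
    have r5 : ∀ g ∈ normalizer (closure {z, a} : Subgroup Y), g ∈ Nz z → g ∈ R := fun g hg e => by
      rcases (mem_Nz h.oz).mp e with e | e
      · exact r3 g hg e
      · exact (R.mul_mem_cancel_left (mul_mem (mul_mem r1 r2) r1)).mp (r3 _ (mul_mem (mul_mem (mul_mem h.wN sN) h.wN) hg) (by
          rw [show w * s * w * g * z * (w * s * w * g)⁻¹ = w * (s * (w * (g * z * g⁻¹) * w⁻¹) * s⁻¹) * w⁻¹ by group, e,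
            ← conj_inv, h.wz, ← conj_inv, sa, inv_inv, h.wa]))
    obtain ⟨x, hx, e⟩ : n ∈ R := by
      rcases h.split hn with e | e
      exacts [r5 n hn e, by simpa using mul_mem (inv_mem r1) (r5 _ (mul_mem h.wN hn) e)]
    exact (show x = ⟨n, hn⟩ from Subtype.ext e) ▸ hx

end KB

end Cfsg.Agent.McL3
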