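import Cfsg.Agent.McL3.Data
import Cfsg.Agent.Char.A8Loc
import Cfsg.Agent.Char.S8A

/-! Generators of the local subgroups of `A₈` and `S₈`. -/

set_option autoImplicit false
set_option maxRecDepth 100000
set_option synthInstance.maxSize 4000

namespace Cfsg.Agent.McL3

open Cfsg.Agent.Mat Cfsg.Agent.Char

def hL : L8.L := el L8.ms [1, 3, 2, 4]

def msL : List L8.L := [L8.a, L8.a⁻¹, hL, hL⁻¹, L8.z, L8.z⁻¹, L8.x3]

theorem msL_rel : ∀ r ∈ relsL, ev msL r = 1 := by decide +kernel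

theorem msL_gen : ev msL [4] = L8.z ∧ ev msL [3, 0, 6, 2] = L8.x2 ∧ ev msL [6] = L8.x3 ∧ ev msL [1, 6] = L8.x4 ∧
    ev msL [1, 3, 6, 3] = L8.x5 ∧ ev msL [0] = L8.a := by decide +kernel

theorem kerL : ∀ l : L8.L, l ≠ 1 → ∃ k ∈ [[4], [0], [0, 3, 6, 2], [3, 6, 2]].map (ev msL),
    (l * (k * l * k⁻¹)) ^ 3 = 1 ∧ l * (k * l * k⁻¹) ≠ 1 := by decide +kernel

def hP : S8.P := S8.b 0 * S8.b 2 * S8.b 1 * S8.b 3

def msP : List S8.P := [S8.a, S8.a⁻¹, hP, hP⁻¹, S8.z, S8.z⁻¹, S8.t * S8.s, S8.t]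

theorem msP_rel : ∀ r ∈ relsP, ev msP r = 1 := by decide +kernel

theorem msP_gen : ev msP [7] = S8.t ∧ ev msP [5, 7] = S8.t * S8.z ∧
    (∀ i : Fin 4, ev msP ([[3, 0, 6, 2, 7], [6, 7], [1, 6, 7], [1, 3, 6, 3, 7]].getD i []) = S8.b i) ∧
    ev msP [4] = S8.z ∧ ev msP [0] = S8.a ∧ ev msP [2, 2, 1, 2, 2, 1, 2] = S8.s * S8.c := by decide +kernel

theorem kerP : ∀ l : S8.P, l ≠ 1 → ∃ k ∈ [[4], [0], [0, 3, 6, 2], [0, 6, 2, 2]].map (ev msP),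
    (l * (k * l * k⁻¹)) ^ 3 = 1 ∧ l * (k * l * k⁻¹) ≠ 1 := by decide +kernel

def msD : List (DihedralGroup 4) := [.r 1, .r 3, .sr 0]

theorem msD_rel : ∀ r ∈ relsD, ev msD r = 1 := by decide

theorem msD_gen : ∀ l : DihedralGroup 4, (∃ v ∈ [[], [0], [0, 0], [1], [2], [2, 0], [2, 0, 0], [2, 1]], ev msD v = l) ∧
    (l ≠ 1 → l = ev msD [0, 0] ∨ ∃ k, l * (k * l * k⁻¹) = ev msD [0, 0]) := by decide

end Cfsg.Agent.McL3
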